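import Cfsg.Agent.Lib.GlaubermanStrong.Local
import Cfsg.Agent.Lib.GlaubermanTwo.Module
import Cfsg.Agent.Lib.GlaubermanTwo.Propagation
import Cfsg.Agent.Lib.PGroup.SylowCentre
import Cfsg.Agent.Lib.ThompsonNPC.Thompson

/-!
# The bounds on the normal closure of `Ω₁(Z(S))` in `N(J(S))`
-/

set_option autoImplicit false

namespace Cfsg.Agent.Lib.GlaubermanStrong

open Subgroup Cfsg GlaubermanTwo
open scoped commutatorElement Pointwise

universe u

variable {G : Type u} [Group G]

/-- The squared bounds for `R` on `V`. -/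
def SqBound (V R : Subgroup G) : Prop :=
  Nat.card R ^ 2 * Nat.card ↥(V ⊓ centralizer (R : Set G)) ≤
      Nat.card V * Nat.card ↥(R ⊓ centralizer (V : Set G)) ^ 2 ∧
    Nat.card R ^ 2 ≤ Nat.card ↥⁅V, R⁆ * Nat.card ↥(R ⊓ centralizer (V : Set G)) ^ 2

theorem sqBound_map {G' : Type u} [Group G'] {f : G' →* G} (hf : Function.Injective f)
    (V R : Subgroup G') : SqBound (V.map f) (R.map f) ↔ SqBound V R := by
  simp only [SqBound, map_inf_centralizer_map hf, ← map_commutator, card_map_of_injective hf]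

/-- What is used about the subgroup `A`. -/
structure AHyp (A : Subgroup G) (S : Sylow 2 G) : Prop where
  le : A ≤ S
  elem : IsElementaryAbelian 2 A
  normJ : normalizer (thompsonSubgroupOf 2 (S : Subgroup G) : Set G) ≤ normalizer (A : Set G)
  bound : ∀ R ≤ (S : Subgroup G), ⁅R, R⁆ ≤ centralizer (A : Set G) →
    (∀ r ∈ R, r ^ 2 ∈ centralizer (A : Set G)) → SqBound A R

variable [Finite G] {A : Subgroup G} {S : Sylow 2 G}

theorem AHyp.normalS (h : AHyp A S) :
    normalizer ((S : Subgroup G) : Set G) ≤ normalizer (A : Set G) :=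
  (Thompson.normalizer_le 2 _).trans h.normJ

theorem AHyp.strict (h : AHyp A S) : Strict (S : Subgroup G) A := by
  intro R hR h1 h2 h3
  obtain ⟨b1, b2⟩ := h.bound R hR h1 h2
  have hlt : Nat.card ↥(R ⊓ centralizer (A : Set G)) < Nat.card R :=
    lt_of_le_of_ne (card_le_of_le inf_le_left) fun e =>
      h3 ((eq_of_le_of_card_ge inf_le_left e.ge).ge.trans inf_le_right)
  refine ⟨?_, ?_⟩
  · unfold FixBound
    refine Nat.lt_of_mul_lt_mul_right (a := Nat.card R) ?_
    calc Nat.card R ^ 3 * Nat.card ↥(A ⊓ centralizer (R : Set G)) ^ 2 * Nat.card R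
        = (Nat.card R ^ 2 * Nat.card ↥(A ⊓ centralizer (R : Set G))) ^ 2 := by ring
      _ ≤ (Nat.card A * Nat.card ↥(R ⊓ centralizer (A : Set G)) ^ 2) ^ 2 :=
          Nat.pow_le_pow_left b1 2
      _ = Nat.card A ^ 2 * Nat.card ↥(R ⊓ centralizer (A : Set G)) ^ 3 *
            Nat.card ↥(R ⊓ centralizer (A : Set G)) := by ring
      _ < _ := Nat.mul_lt_mul_of_pos_left hlt
          (Nat.mul_pos (pow_pos Nat.card_pos 2) (pow_pos Nat.card_pos 3))
  · unfold CommBound
    refine Nat.lt_of_mul_lt_mul_right (a := Nat.card R) ?_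
    calc Nat.card R * Nat.card R = Nat.card R ^ 2 := (pow_two _).symm
      _ ≤ Nat.card ↥⁅A, R⁆ * Nat.card ↥(R ⊓ centralizer (A : Set G)) ^ 2 := b2
      _ = Nat.card ↥⁅A, R⁆ * Nat.card ↥(R ⊓ centralizer (A : Set G)) *
            Nat.card ↥(R ⊓ centralizer (A : Set G)) := by ring
      _ < _ := Nat.mul_lt_mul_of_pos_left hlt (Nat.mul_pos Nat.card_pos Nat.card_pos)

theorem AHyp.le_wOf (h : AHyp A S) {T : Subgroup G} (hAT : A ≤ T) (hTS : T ≤ S) :
    A ≤ GlaubermanTwo.wOf T :=
  (strict_le_wOf le_rfl (jHatOf_le T) h.elem hAT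
    ((hTS.trans Subgroup.le_normalizer).trans h.normalS) (h.strict.mono hTS)).1

theorem aHyp (hfree : ¬ Involves (Equiv.Perm (Fin 4)) G) (hsec : SectionHyp G) (S : Sylow 2 G)
    (N : Subgroup G) (hN : N = normalizer (thompsonSubgroupOf 2 (S : Subgroup G) : Set G))
    (A : Subgroup G)
    (hA : A = (normalClosure (((omegaOne 2 ((S : Subgroup G) ⊓
      centralizer ((S : Subgroup G) : Set G))).subgroupOf N : Subgroup ↥N) : Set ↥N)).map N.subtype) :
    AHyp A S := by
  have : Fact (Nat.Prime 2) := ⟨Nat.prime_two⟩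
  set J := thompsonSubgroupOf 2 (S : Subgroup G) with hJ
  set Z0 := omegaOne 2 ((S : Subgroup G) ⊓ centralizer ((S : Subgroup G) : Set G)) with hZ0
  set W0 := omegaOne 2 (J ⊓ centralizer (J : Set G)) with hW0
  have hJS : J ≤ S := Thompson.thompsonSubgroupOf_le 2 _
  have hZS : Z0 ≤ (S : Subgroup G) ⊓ centralizer ((S : Subgroup G) : Set G) := Omega.le_self _ _
  have hZW : Z0 ≤ W0 := by
    refine Omega.le_iff.2 fun x hx hx2 => Omega.mem_of_pow_eq_one ⟨?_, ?_⟩ hx2
    · obtain ⟨E, hE⟩ := Thompson.exists_mem_maxIn 2 (S : Subgroup G)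
      exact Thompson.le_thompsonSubgroupOf hE (Thompson.mem_of_pow_eq_one_of_commute hE hx.1 hx2
        fun a ha => mem_centralizer_iff.1 hx.2 a (hE.2.1 ha))
    · exact centralizer_le (SetLike.coe_subset_coe.2 hJS) hx.2
  have hSN : (S : Subgroup G) ≤ N :=
    hN ▸ Subgroup.le_normalizer.trans (Thompson.normalizer_le 2 _)
  have hNW : N ≤ normalizer (W0 : Set G) := by
    rw [hN]
    exact (LocalChar.le_normalizer_inf_of_le le_rfl
      (LocalChar.le_normalizer_centralizer_of_le le_rfl)).trans (Omega.normalizer_le 2 _)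
  have hAW : A ≤ W0 := by
    rw [hA, map_le_iff_le_comap]
    have : (W0.comap N.subtype).Normal := normal_subgroupOf_of_le_normalizer hNW
    exact normalClosure_le_normal fun x hx => hZW hx
  have hAS : A ≤ (S : Subgroup G) :=
    hAW.trans ((Omega.le_self _ _).trans (inf_le_left.trans hJS))
  have hAe : IsElementaryAbelian 2 A :=
    ElemAbelian.mono (Omega.inter_centralizer_isElementaryAbelian J) hAW
  have hNA : N ≤ normalizer (A : Set G) := by
    intro n hn
    refine LocalChar.mem_normalizer_of_conj_map_le ?_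
    rintro _ ⟨x, hx, rfl⟩
    rw [hA] at hx ⊢
    obtain ⟨y, hy, rfl⟩ := hx
    exact ⟨⟨n, hn⟩ * y * ⟨n, hn⟩⁻¹, normalClosure_normal.conj_mem y hy _, rfl⟩
  refine ⟨hAS, hAe, hN ▸ hNA, fun R hR h1 h2 => ?_⟩
  obtain ⟨Y, hYN, hSY, hcov, R0, hR0n, hR0c, hR0o, hchr, hfree', hres⟩ :=
    exists_model hfree hsec hAS hSN hNA S.2
      (fun h => S.not_dvd_index (h.trans (relIndex_dvd_index_of_le hSN)))
  set f := QuotientGroup.mk' R0 with hf
  have hfs : Function.Surjective f := QuotientGroup.mk'_surjective R0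
  set g : (S : Subgroup G) →* Y ⧸ R0 := f.comp (inclusion hSY) with hg
  have hgi : Function.Injective g := by
    rw [← MonoidHom.ker_eq_bot_iff, _root_.eq_bot_iff]
    intro x hx
    have hxR : inclusion hSY x ∈ R0 := (QuotientGroup.eq_one_iff _).1 hx
    obtain ⟨k, hk⟩ := S.2 x
    refine mem_bot.2 (inclusion_injective hSY ?_)
    rw [map_one, ← orderOf_eq_one_iff]
    refine Nat.eq_one_of_dvd_coprimes
      ((((Nat.prime_two.coprime_iff_not_dvd).2 hR0o).symm).pow_right k) ?_ ?_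
    · exact Subgroup.orderOf_dvd_natCard R0 hxR
    · exact orderOf_dvd_of_pow_eq_one (by rw [← map_pow, hk, map_one])
  set A' := (A.subgroupOf (S : Subgroup G)).map g with hA'
  set R' := (R.subgroupOf (S : Subgroup G)).map g with hR'
  have hA'eq : A' = (A.subgroupOf Y).map f := by
    rw [hA', hg, ← Subgroup.map_map]
    congr 1
    ext y
    exact ⟨by rintro ⟨x, hx, rfl⟩; exact hx, fun hy => ⟨⟨y, hAS hy⟩, hy, Subtype.ext rfl⟩⟩
  have hA'n : A'.Normal := hA'eq ▸ Subgroup.Normal.map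
    (normal_subgroupOf_of_le_normalizer (hYN.trans hNA)) f hfs
  have hA'e : IsElementaryAbelian 2 A' :=
    ElemAbelian.map (ElemAbelian.comap hAe (S : Subgroup G).subtype_injective) g
  have hO : pCore 2 ((Y ⧸ R0) ⧸ centralizer (A' : Set (Y ⧸ R0))) = ⊥ := by
    refine SylowCentre.pCore_quotient_eq_bot ?_
    set V' := ⨆ T : Sylow 2 (Y ⧸ R0), A' ⊓ centralizer ((T : Subgroup (Y ⧸ R0)) : Set (Y ⧸ R0))
      with hV'
    have hV'n : V'.Normal := by
      refine normalizer_eq_top_iff.1 (eq_top_iff.2 fun y _ => LocalChar.mem_normalizer_of_conj_map_le ?_)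
      rw [hV', Subgroup.map_iSup]
      refine iSup_le fun T => le_iSup_of_le (y • T) ?_
      rintro _ ⟨x, hx, rfl⟩
      refine ⟨hA'n.conj_mem x hx.1 y, mem_centralizer_iff.2 fun z hz => ?_⟩
      have hz' : z ∈ MulAut.conj y • (T : Subgroup (Y ⧸ R0)) := hz
      rw [mem_pointwise_smul_iff_inv_smul_mem] at hz'
      have := mem_centralizer_iff.1 hx.2 _ hz'
      simp only [← map_inv, MulAut.smul_def, MulAut.conj_apply, inv_inv] at this
      show z * (y * x * y⁻¹) = y * x * y⁻¹ * z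
      calc z * (y * x * y⁻¹) = y * (y⁻¹ * z * y * x) * y⁻¹ := by group
        _ = y * (x * (y⁻¹ * z * y)) * y⁻¹ := by rw [this]
        _ = _ := by group
    let M : Subgroup G := ((V'.comap f).map Y.subtype) ⊓ A
    have hMn : N ≤ normalizer (M : Set G) := by
      intro n hn
      refine LocalChar.mem_normalizer_of_conj_map_le ?_
      rintro _ ⟨x, ⟨hx1, hxA⟩, rfl⟩
      obtain ⟨m, hm, hnm⟩ := hcov n hn
      refine ⟨?_, (mem_normalizer_iff.1 (hNA hn) x).1 hxA⟩
      obtain ⟨y, hy, rfl⟩ := hx1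
      refine ⟨⟨m, hm⟩ * y * ⟨m, hm⟩⁻¹, ?_, ?_⟩
      · have := hV'n.conj_mem _ hy (f ⟨m, hm⟩)
        rwa [← map_inv, ← map_mul, ← map_mul] at this
      · have e := mem_centralizer_iff.1 hnm _ hxA
        show m * (y : G) * m⁻¹ = n * (y : G) * n⁻¹
        calc m * (y : G) * m⁻¹ = n * ((n⁻¹ * m) * (y : G)) * m⁻¹ := by group
          _ = n * ((y : G) * (n⁻¹ * m)) * m⁻¹ := by
              rw [show n⁻¹ * m * (y : G) = (y : G) * (n⁻¹ * m) from e.symm]
          _ = _ := by group
    have hZA : Z0 ≤ A := fun z hz => hA.ge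
      ⟨⟨z, hSN (hZS hz).1⟩, subset_normalClosure (mem_subgroupOf.2 hz), rfl⟩
    have hZM : Z0 ≤ M := by
      intro z hz
      refine ⟨⟨⟨z, hSY (hZS hz).1⟩, ?_, rfl⟩, hZA hz⟩
      obtain ⟨TY, hTY⟩ := exists_sylowIn hSY S.2
        (fun h => S.not_dvd_index (h.trans (relIndex_dvd_index_of_le hSY)))
      refine mem_iSup_of_mem (TY.mapSurjective hfs) ⟨?_, mem_centralizer_iff.2 ?_⟩
      · rw [hA'eq]; exact mem_map_of_mem f (mem_subgroupOf.2 (hZA hz))
      · rintro _ ⟨t, ht, rfl⟩
        rw [← map_mul, ← map_mul]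
        exact congrArg f (Subtype.ext
          (mem_centralizer_iff.1 (hZS hz).2 _ (mem_subgroupOf.1 (hTY.le ht))))
    have hAM : A ≤ M := by
      rw [hA, map_le_iff_le_comap]
      have : (M.comap N.subtype).Normal := normal_subgroupOf_of_le_normalizer hMn
      exact normalClosure_le_normal fun x hx => hZM hx
    rw [hA'eq]
    rintro _ ⟨y, hy, rfl⟩
    obtain ⟨y', hy', e⟩ := (hAM (mem_subgroupOf.1 hy)).1
    rwa [← Subtype.ext e]
  have hAA : (A.subgroupOf (S : Subgroup G)).map (S : Subgroup G).subtype = A :=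
    map_subgroupOf_eq_of_le hAS
  have hRR : (R.subgroupOf (S : Subgroup G)).map (S : Subgroup G).subtype = R :=
    map_subgroupOf_eq_of_le hR
  have hb : SqBound A' R' := by
    refine module_bound hfree' hres hA'e hO R' ?_ ?_
    · rw [hR', hA', ← map_commutator]
      refine (map_le_centralizer_map hgi).2
        ((map_le_centralizer_map (S : Subgroup G).subtype_injective).1 ?_)
      rwa [map_commutator, hAA, hRR]
    · rintro _ ⟨r, hr, rfl⟩
      rw [← map_pow, hA', mem_centralizer_map hgi,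
        ← mem_centralizer_map (S : Subgroup G).subtype_injective, hAA]
      exact h2 _ (mem_subgroupOf.1 hr)
  rw [← hAA, ← hRR, sqBound_map (S : Subgroup G).subtype_injective]
  rwa [← sqBound_map hgi]

end Cfsg.Agent.Lib.GlaubermanStrong
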