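import Cfsg.Agent.Lib.GlaubermanStrong.Tame
import Cfsg.Agent.Lib.PGroup.SylowNormal
import Cfsg.Agent.Lib.PGroup.ElemAbelian
import Cfsg.Prelude.Def_LocalEven

/-!
# A strongly closed elementary abelian subgroup controls strong fusion
-/

set_option autoImplicit false

namespace Cfsg.Agent.Lib.GlaubermanStrong

open Subgroup Cfsg
open scoped commutatorElement

universe u

variable {G : Type u} [Group G] [Finite G] {A : Subgroup G} {S : Sylow 2 G}

theorem exists_centralizer_mul_full (hAe : IsElementaryAbelian 2 A)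
    (hSA : (S : Subgroup G) ≤ normalizer (A : Set G)) (hsc : IsStronglyClosed A (S : Subgroup G))
    {P : Subgroup G} (hPS : P ≤ (S : Subgroup G))
    (hsyl : ¬ 2 ∣ ((S : Subgroup G) ⊓ normalizer (P : Set G)).relIndex (normalizer (P : Set G)))
    (IH : ∀ g : G, Nat.card P < Nat.card ↥(dom (S : Subgroup G) g) →
      ∃ c ∈ centralizer (dom (S : Subgroup G) g : Set G), c⁻¹ * g ∈ normalizer (A : Set G)) :
    ∀ y ∈ normalizer (P : Set G),
      ∃ c ∈ centralizer (P : Set G), c⁻¹ * y ∈ normalizer (A : Set G) := by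
  have : Fact (Nat.Prime 2) := ⟨Nat.prime_two⟩
  intro y hy
  set N := normalizer (P : Set G) with hN
  set T := (S : Subgroup G) ⊓ N with hT
  set D := A ⊓ P with hD
  have hDn : N ≤ normalizer (D : Set G) := fun n hn => by
    refine LocalChar.mem_normalizer_of_conj_map_le ?_
    rintro _ ⟨d, hd, rfl⟩
    have h1 := (mem_normalizer_iff.1 hn d).1 hd.2
    exact ⟨hsc.2 d hd.1 n (hPS h1), h1⟩
  by_cases hAP : A ⊓ N ≤ P
  · have hle : A ≤ P := by
      by_contra hA
      have hPA : P ≤ normalizer (A : Set G) := hPS.trans hSA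
      have hp : IsPGroup 2 ↥(P ⊔ A) := S.2.to_le (sup_le hPS hsc.1)
      obtain ⟨x, hx, hxP⟩ := SetLike.exists_of_lt
        (Transfer.lt_inf_normalizer hp (left_lt_sup.2 hA))
      obtain ⟨hx, hxn⟩ := hx
      replace hx : x ∈ ((P ⊔ A : Subgroup G) : Set G) := hx
      rw [coe_mul_of_left_le_normalizer_right P A hPA] at hx
      obtain ⟨p, hp', a, ha, rfl⟩ := hx
      have := mul_mem (inv_mem (Subgroup.le_normalizer hp' : p ∈ normalizer (P : Set G))) hxn
      rw [inv_mul_cancel_left] at this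
      exact hxP (mul_mem hp' (hAP ⟨ha, this⟩))
    refine ⟨1, one_mem _, ?_⟩
    have := hDn hy
    rw [hD, inf_eq_left.2 hle] at this
    rwa [inv_one, one_mul]
  let W : Subgroup G :=
    { carrier := {w | w ∈ centralizer (D : Set G) ∧ ∀ p ∈ P, w * p * w⁻¹ * p⁻¹ ∈ D}
      one_mem' := ⟨one_mem _, fun p _ => by simp [one_mem]⟩
      mul_mem' := by
        rintro x x' ⟨hx, hxy⟩ ⟨hx', hxy'⟩
        refine ⟨mul_mem hx hx', fun p hp => ?_⟩
        have e : x * x' * p * (x * x')⁻¹ * p⁻¹ =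
            x * (x' * p * x'⁻¹ * p⁻¹) * x⁻¹ * (x * p * x⁻¹ * p⁻¹) := by group
        rw [e, ← mem_centralizer_iff.1 hx _ (hxy' p hp), mul_inv_cancel_right]
        exact mul_mem (hxy' p hp) (hxy p hp)
      inv_mem' := by
        rintro x ⟨hx, hxy⟩
        refine ⟨inv_mem hx, fun p hp => ?_⟩
        have h1 := inv_mem (hxy p hp)
        have e : x⁻¹ * p * x⁻¹⁻¹ * p⁻¹ = x⁻¹ * (x * p * x⁻¹ * p⁻¹)⁻¹ * x := by group
        rw [e, mul_assoc, mem_centralizer_iff.1 hx _ h1, inv_mul_cancel_left]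
        exact h1 }
  have hWN : W ≤ N := fun x hx => by
    refine LocalChar.mem_normalizer_of_conj_map_le ?_
    rintro _ ⟨p, hp, rfl⟩
    show x * p * x⁻¹ ∈ P
    have := mul_mem (mem_inf.1 (hx.2 p hp)).2 hp
    rwa [inv_mul_cancel_right] at this
  have hWn : (W.subgroupOf N).Normal := by
    refine ⟨fun w hw n => mem_subgroupOf.2 ⟨?_, fun p hp => ?_⟩⟩
    · refine mem_centralizer_iff.2 fun d hd => ?_
      have h1 := mem_centralizer_iff.1 (mem_subgroupOf.1 hw).1 _
        (LocalChar.conj_mem_of_mem_normalizer' (hDn n.2) hd)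
      show d * ((n : G) * w * (n : G)⁻¹) = (n : G) * w * (n : G)⁻¹ * d
      calc d * ((n : G) * w * (n : G)⁻¹) = (n : G) * ((n : G)⁻¹ * d * n * w) * (n : G)⁻¹ := by group
        _ = (n : G) * ((w : G) * ((n : G)⁻¹ * d * n)) * (n : G)⁻¹ := by rw [h1]
        _ = _ := by group
    · have h1 := (mem_subgroupOf.1 hw).2 _ (LocalChar.conj_mem_of_mem_normalizer' n.2 hp)
      have h2 := LocalChar.conj_mem_of_mem_normalizer (hDn n.2) h1
      show (n : G) * w * (n : G)⁻¹ * p * ((n : G) * w * (n : G)⁻¹)⁻¹ * p⁻¹ ∈ D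
      convert h2 using 1
      group
  set Wy := W.subgroupOf N with hWy
  have hTY : T ≤ N := inf_le_right
  obtain ⟨TS, hTS⟩ : ∃ Q : Sylow 2 N, (Q : Subgroup N) = T.subgroupOf N :=
    ⟨((S.2.to_le inf_le_left).of_equiv (subgroupOfEquivOfLe hTY).symm).toSylow hsyl, rfl⟩
  set C := (centralizer (P : Set G)).subgroupOf W with hC
  have hCn : C.Normal := normal_subgroupOf_of_le_normalizer
    (LocalChar.le_normalizer_centralizer_of_le hWN)
  have hsq : ∀ x : W, x ^ 2 ∈ C := by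
    intro x
    refine mem_subgroupOf.2 (mem_centralizer_iff.2 fun p hp => ?_)
    have h1 : (x : G) * p * (x : G)⁻¹ * p⁻¹ ∈ D := x.2.2 p hp
    have h2 := hAe.2 _ (mem_inf.1 h1).1
    have e : (x : G) * x * p * ((x : G) * x)⁻¹ * p⁻¹ = 1 := by
      rw [show (x : G) * x * p * ((x : G) * x)⁻¹ * p⁻¹ =
        x * ((x : G) * p * (x : G)⁻¹ * p⁻¹) * (x : G)⁻¹ * ((x : G) * p * (x : G)⁻¹ * p⁻¹) by group,
        ← mem_centralizer_iff.1 x.2.1 _ h1, mul_inv_cancel_right, ← pow_two]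
      exact h2
    rw [mul_inv_eq_one, mul_inv_eq_iff_eq_mul] at e
    rw [SubmonoidClass.coe_pow, pow_two]
    exact e.symm
  obtain ⟨PW, hPW⟩ := SylowNormal.exists_sylow_map_eq_inf TS Wy
  set U := P ⊔ (T ⊓ W) with hU
  obtain ⟨m, hm, w, hw, e⟩ := mem_sup_of_normal_right.1
    ((SylowNormal.normalizer_inf_sup TS Wy).ge (mem_top (⟨y, hy⟩ : N)))
  have hmU : (m : G) ∈ normalizer (U : Set G) := by
    refine LocalChar.mem_normalizer_of_conj_map_le ?_
    rw [hU, Subgroup.map_sup]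
    refine sup_le ((LocalChar.conj_map_eq_of_mem m.2).le.trans le_sup_left) (le_trans ?_ le_sup_right)
    rintro _ ⟨x, hx, rfl⟩
    have hxm : (⟨x, hTY hx.1⟩ : N) ∈ (TS : Subgroup N) ⊓ Wy :=
      ⟨hTS.ge (mem_subgroupOf.2 hx.1), mem_subgroupOf.2 hx.2⟩
    have h2 := (mem_normalizer_iff.1 hm _).1 hxm
    exact ⟨mem_subgroupOf.1 (hTS.le h2.1), mem_subgroupOf.1 h2.2⟩
  -- `w` is a product from `C(P)` and `T ∩ W`
  have hq : IsPGroup 2 (W ⧸ C) := by
    intro q
    obtain ⟨x, rfl⟩ := QuotientGroup.mk'_surjective C q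
    exact ⟨1, by rw [pow_one, ← map_pow]; exact (QuotientGroup.eq_one_iff _).2 (hsq x)⟩
  let e1 : Wy →* W := ⟨⟨fun x => ⟨((x : N) : G), mem_subgroupOf.1 x.2⟩, rfl⟩, fun _ _ => rfl⟩
  have he1 : Function.Surjective e1 := fun x => ⟨⟨⟨x, hWN x.2⟩, mem_subgroupOf.2 x.2⟩, rfl⟩
  have hPWtop : ((PW.mapSurjective he1).mapSurjective (QuotientGroup.mk'_surjective C) :
      Subgroup (W ⧸ C)) = ⊤ :=
    (((PW.mapSurjective he1).mapSurjective (QuotientGroup.mk'_surjective C)).is_maximal'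
      (Q := ⊤) (hq.to_subgroup _) le_top).symm
  rw [Sylow.coe_mapSurjective, Sylow.coe_mapSurjective] at hPWtop
  obtain ⟨_, ⟨t, ht, rfl⟩, hte⟩ := hPWtop.ge (mem_top (QuotientGroup.mk' C (e1 ⟨w, hw⟩)))
  set tG : G := ((t : N) : G) with htG
  have htT : tG ∈ T ⊓ W := by
    have h1 := hPW.le (mem_map_of_mem Wy.subtype ht)
    exact ⟨mem_subgroupOf.1 (hTS.le h1.1), mem_subgroupOf.1 h1.2⟩
  have hcw : tG⁻¹ * (w : G) ∈ centralizer (P : Set G) :=
    mem_subgroupOf.1 ((QuotientGroup.eq (s := C)).1 hte)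
  -- the larger intersection
  set z := (m : G) * tG with hz
  have hzU : z ∈ normalizer (U : Set G) :=
    mul_mem hmU (Subgroup.le_normalizer (mem_sup_right htT))
  have hUS : U ≤ (S : Subgroup G) := sup_le hPS (inf_le_left.trans inf_le_left)
  have hUdom : U ≤ dom (S : Subgroup G) z := le_inf hUS
    ((LocalChar.conj_map_eq_of_mem hzU).ge.trans (map_mono hUS))
  have hAW : A ⊓ N ≤ T ⊓ W := fun a ha => ⟨⟨hsc.1 ha.1, ha.2⟩,
    mem_centralizer_iff.2 fun d hd => ElemAbelian.comm hAe (mem_inf.1 hd).1 ha.1, fun p hp => by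
      refine ⟨?_, P.mul_mem ((mem_normalizer_iff.1 ha.2 p).1 hp) (P.inv_mem hp)⟩
      rw [mul_assoc, mul_assoc, ← mul_assoc p]
      exact A.mul_mem ha.1 ((mem_normalizer_iff.1 (hSA (hPS hp)) _).1 (A.inv_mem ha.1))⟩
  have hlt : P < U := left_lt_sup.2 fun hle => hAP (hAW.trans hle)
  obtain ⟨c, hc, hcz⟩ := IH z (lt_of_lt_of_le
    (lt_of_le_of_ne (card_le_of_le hlt.le) fun e' => hlt.ne (eq_of_le_of_card_ge hlt.le e'.ge))
    (card_le_of_le hUdom))
  have hcP : c ∈ centralizer (P : Set G) :=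
    centralizer_le (SetLike.coe_subset_coe.2 (hlt.le.trans hUdom)) hc
  have hzN : z ∈ N := mul_mem m.2 (hTY htT.1)
  have hye : y = z * (tG⁻¹ * (w : G)) := by
    have := congrArg Subtype.val e
    rw [hz, mul_assoc, mul_inv_cancel_left]
    exact this.symm
  refine ⟨(z * (tG⁻¹ * (w : G)) * z⁻¹) * c, mul_mem
    (LocalChar.conj_mem_of_mem_normalizer (LocalChar.le_normalizer_centralizer_of_le le_rfl hzN) hcw)
    hcP, ?_⟩
  convert hcz using 1
  rw [hye]
  group

theorem exists_centralizer_mul (hAe : IsElementaryAbelian 2 A)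
    (hSA : normalizer ((S : Subgroup G) : Set G) ≤ normalizer (A : Set G))
    (hsc : IsStronglyClosed A (S : Subgroup G)) :
    ∀ (d : ℕ) (g : G), Nat.card G ≤ Nat.card ↥(dom (S : Subgroup G) g) + d →
      ∃ c ∈ centralizer (dom (S : Subgroup G) g : Set G), c⁻¹ * g ∈ normalizer (A : Set G) := by
  have : Fact (Nat.Prime 2) := ⟨Nat.prime_two⟩
  intro d
  induction d using Nat.strong_induction_on with
  | _ d ih =>
  intro g hd
  set R := dom (S : Subgroup G) g with hR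
  by_cases hRS : R = (S : Subgroup G)
  · refine ⟨1, one_mem _, ?_⟩
    rw [inv_one, one_mul]
    refine hSA (inv_mem_iff.1 (LocalChar.mem_normalizer_of_conj_map_le ?_))
    rintro _ ⟨x, hx, rfl⟩
    have hx' : x ∈ cjg g (S : Subgroup G) := (hRS.ge hx).2
    rw [LocalChar.mem_conj_map] at hx'
    simpa using hx'
  obtain ⟨k, n, R2, hn, hlt, hk, hR2, hR2g, hle⟩ := exists_step S hRS
  have hcard : ∀ {U : Subgroup G}, R < U → Nat.card R < Nat.card U := fun {U} hRU =>
    lt_of_le_of_ne (card_le_of_le hRU.le) fun e => hRU.ne (eq_of_le_of_card_ge hRU.le e.ge)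
  have IH : ∀ g', Nat.card R < Nat.card ↥(dom (S : Subgroup G) g') →
      ∃ c ∈ centralizer (dom (S : Subgroup G) g' : Set G), c⁻¹ * g' ∈ normalizer (A : Set G) := by
    intro g' hc
    have hUG : Nat.card ↥(dom (S : Subgroup G) g') ≤ Nat.card G := card_le_card_group _
    exact ih (Nat.card G - Nat.card ↥(dom (S : Subgroup G) g')) (by omega) g' (by omega)
  have hnorm : ∀ y ∈ normalizer (R : Set G),
      ∃ c ∈ centralizer (R : Set G), c⁻¹ * y ∈ normalizer (A : Set G) := by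
    obtain ⟨h, hh, hPS, hsyl, -, -⟩ := exists_normalizer_conj S (inf_le_left : R ≤ S)
    obtain ⟨c, hc, hch⟩ := IH h ((hcard hlt).trans_le (card_le_of_le (le_inf inf_le_left hh)))
    have hcR : c ∈ centralizer (R : Set G) :=
      centralizer_le (SetLike.coe_subset_coe.2 (hlt.le.trans (le_inf inf_le_left hh))) hc
    set x := c⁻¹ * h with hx
    have e : cjg h⁻¹ R = cjg x⁻¹ R := by
      rw [hx, mul_inv_rev, inv_inv]
      conv_rhs => rw [cjg, ← LocalChar.conj_map_conj_map,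
        LocalChar.conj_map_eq_of_mem (centralizer_le_normalizer _ hcR)]
    rw [e] at hPS hsyl
    intro y hy
    obtain ⟨c2, hc2, hy2⟩ := exists_centralizer_mul_full hAe
      (Subgroup.le_normalizer.trans hSA) hsc hPS hsyl
      (fun g' hg' => IH g' (by rwa [LocalChar.card_conj_map] at hg')) (x⁻¹ * y * x) (by
        rw [cjg, LocalChar.normalizer_conj_map, LocalChar.mem_conj_map]
        simpa [mul_assoc] using hy)
    refine ⟨x * c2 * x⁻¹, ?_, ?_⟩
    · rw [cjg, LocalChar.centralizer_conj_map, LocalChar.mem_conj_map, inv_inv] at hc2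
      exact hc2
    · have := mul_mem (mul_mem hch hy2) (inv_mem hch)
      convert this using 1
      group
  obtain ⟨ck, hck, hk'⟩ := IH k ((hcard hlt).trans_le (card_le_of_le hk))
  obtain ⟨cm, hcm, hm'⟩ := hnorm n⁻¹ (inv_mem hn)
  obtain ⟨c', hc', hg'⟩ := IH (k⁻¹ * n * g) ((hcard hR2).trans_le
    ((LocalChar.card_conj_map R2 _).ge.trans (card_le_of_le hle)))
  have hckR : ck ∈ centralizer (R : Set G) :=
    centralizer_le (SetLike.coe_subset_coe.2 (hlt.le.trans hk)) hck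
  have hc'' : (k⁻¹ * n)⁻¹ * c' * (k⁻¹ * n) ∈ centralizer (R : Set G) := by
    have h1 : c' ∈ centralizer (cjg (k⁻¹ * n) R : Set G) :=
      centralizer_le (SetLike.coe_subset_coe.2 ((map_mono hR2.le).trans hle)) hc'
    rwa [cjg, LocalChar.centralizer_conj_map, LocalChar.mem_conj_map] at h1
  refine ⟨((k⁻¹ * n)⁻¹ * c' * (k⁻¹ * n)) * (n⁻¹ * ck * n) * cm, mul_mem (mul_mem hc''
    (LocalChar.conj_mem_of_mem_normalizer' (LocalChar.le_normalizer_centralizer_of_le le_rfl hn)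
      hckR)) hcm, ?_⟩
  have := mul_mem (mul_mem hm' hk') hg'
  convert this using 1
  group

theorem controlsStrongFusion (hAe : IsElementaryAbelian 2 A)
    (hSA : normalizer ((S : Subgroup G) : Set G) ≤ normalizer (A : Set G))
    (hsc : IsStronglyClosed A (S : Subgroup G)) : ControlsStrongFusion 2 A := by
  refine ⟨S, hsc.1, fun X hX => ⟨hX, fun g hg => ?_⟩⟩
  obtain ⟨c, hc, hx⟩ := exists_centralizer_mul hAe hSA hsc (Nat.card G) g (Nat.le_add_left _ _)
  refine ⟨c⁻¹ * g, hx, fun a ha => ?_⟩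
  have h1 : g * a * g⁻¹ ∈ dom (S : Subgroup G) g := by
    refine ⟨hg ⟨a, ha, rfl⟩, LocalChar.conj_mem_conj_map (hX ha)⟩
  have h2 := mem_centralizer_iff.1 hc _ h1
  calc g * a * g⁻¹ = c⁻¹ * (c * (g * a * g⁻¹)) := by group
    _ = c⁻¹ * ((g * a * g⁻¹) * c) := by rw [← h2]
    _ = _ := by group

end Cfsg.Agent.Lib.GlaubermanStrong
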