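import Cfsg.Agent.Lib.GlaubermanStrong.WeakClosure

/-!
# The conjugates of a weakly closed subgroup
-/

set_option autoImplicit false

namespace Cfsg.Agent.Lib.GlaubermanStrong

open Subgroup Cfsg GlaubermanTwo
open scoped commutatorElement

universe u

variable {G : Type u} [Group G]

/-- A conjugation-invariant family of elementary abelian 2-subgroups, no two in a 2-group, with the
squared bounds. -/
structure Family (𝒜 : Set (Subgroup G)) : Prop where
  elem : ∀ X ∈ 𝒜, IsElementaryAbelian 2 X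
  conj : ∀ X ∈ 𝒜, ∀ g : G, cjg g X ∈ 𝒜
  eq_of_le : ∀ X ∈ 𝒜, ∀ Y ∈ 𝒜, ∀ P : Subgroup G, IsPGroup 2 P → X ≤ P → Y ≤ P → X = Y
  mem_of_comm : ∀ X ∈ 𝒜, ∀ Y ∈ 𝒜, ∀ y ∈ Y, y ∈ centralizer (X : Set G) → y ∈ X
  bound : ∀ X ∈ 𝒜, ∀ R : Subgroup G, IsElementaryAbelian 2 R → R ≤ normalizer (X : Set G) →
    SqBound X R

variable [Finite G] {A : Subgroup G} {S : Sylow 2 G}

theorem family_of_weaklyClosed (h : AHyp A S)
    (hwc : ∀ g : G, cjg g A ≤ (S : Subgroup G) → g ∈ normalizer (A : Set G)) :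
    Family (Set.range fun g : G => cjg g A) := by
  have : Fact (Nat.Prime 2) := ⟨Nat.prime_two⟩
  have hex : ∀ (P : Subgroup G), IsPGroup 2 P → ∀ g : G, cjg g A ≤ P →
      ∃ h : G, P ≤ cjg h (S : Subgroup G) ∧ cjg g A = cjg h A := by
    intro P hP g hg
    obtain ⟨X, hX⟩ := hP.exists_le_sylow
    obtain ⟨x, hx⟩ := MulAction.exists_smul_eq G S X
    have hXS : (X : Subgroup G) = cjg x (S : Subgroup G) := by
      rw [← hx, Sylow.coe_subgroup_smul]; rfl
    rw [hXS] at hX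
    refine ⟨x, hX, ?_⟩
    have h1 := hwc (x⁻¹ * g) (by
      rw [cjg, ← LocalChar.conj_map_conj_map]
      refine (map_mono (hg.trans hX)).trans ?_
      rw [cjg, LocalChar.conj_map_conj_map, inv_mul_cancel, LocalChar.conj_map_one])
    have h2 := congrArg (cjg x) (cjg_eq_of_mem h1)
    rwa [cjg, LocalChar.conj_map_conj_map, mul_inv_cancel_left] at h2
  have heq : ∀ g g' : G, ∀ P : Subgroup G, IsPGroup 2 P → cjg g A ≤ P → cjg g' A ≤ P →
      cjg g A = cjg g' A := by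
    intro g g' P hP hg hg'
    obtain ⟨x, hx, e⟩ := hex P hP g hg
    have h1 := hwc (x⁻¹ * g') (by
      rw [cjg, ← LocalChar.conj_map_conj_map]
      refine (map_mono (hg'.trans hx)).trans ?_
      rw [cjg, LocalChar.conj_map_conj_map, inv_mul_cancel, LocalChar.conj_map_one])
    have h2 := congrArg (cjg x) (cjg_eq_of_mem h1)
    rw [cjg, LocalChar.conj_map_conj_map, mul_inv_cancel_left] at h2
    rw [e]; exact h2.symm
  have hel : ∀ g : G, IsElementaryAbelian 2 (cjg g A) := fun g => ElemAbelian.map h.elem _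
  refine ⟨?_, ?_, ?_, ?_, ?_⟩
  · rintro _ ⟨g, rfl⟩; exact hel g
  · rintro _ ⟨g, rfl⟩ k; exact ⟨k * g, (LocalChar.conj_map_conj_map A k g).symm⟩
  · rintro _ ⟨g, rfl⟩ _ ⟨g', rfl⟩ P hP h1 h2; exact heq g g' P hP h1 h2
  · rintro _ ⟨g, rfl⟩ _ ⟨g', rfl⟩ y hy hyc
    set C := centralizer ({y} : Set G)
    have h1 : cjg g A ≤ C := fun x hx =>
      mem_centralizer_singleton_iff.2 (mem_centralizer_iff.1 hyc x hx)
    have h2 : cjg g' A ≤ C := fun x hx =>
      mem_centralizer_singleton_iff.2 (ElemAbelian.comm (hel g') hx hy)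
    obtain ⟨P1, hP1⟩ :=
      ((ElemAbelian.isPGroup (hel g)).comap_subtype (K := C)).exists_le_sylow
    obtain ⟨P2, hP2⟩ :=
      ((ElemAbelian.isPGroup (hel g')).comap_subtype (K := C)).exists_le_sylow
    obtain ⟨c, hc⟩ := MulAction.exists_smul_eq C P2 P1
    have hm : cjg ((c : G) * g') A ≤ (P1 : Subgroup C).map C.subtype := by
      rw [cjg, ← LocalChar.conj_map_conj_map]
      rintro _ ⟨x, hx, rfl⟩
      refine ⟨c * ⟨x, h2 hx⟩ * c⁻¹, ?_, rfl⟩
      rw [← hc, Sylow.coe_subgroup_smul]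
      exact ⟨_, hP2 (mem_subgroupOf.2 hx : (⟨x, h2 hx⟩ : C) ∈ _), rfl⟩
    have e : cjg g A = cjg ((c : G) * g') A := heq _ _ _ (P1.2.map C.subtype)
      (fun x hx => ⟨⟨x, h1 hx⟩, hP1 (mem_subgroupOf.2 hx), rfl⟩) hm
    show y ∈ cjg g A
    rw [e, cjg, ← LocalChar.conj_map_conj_map]
    refine ⟨y, hy, ?_⟩
    have := mem_centralizer_singleton_iff.1 c.2
    show (c : G) * y * (c : G)⁻¹ = y
    rw [this, mul_inv_cancel_right]
  · rintro _ ⟨g, rfl⟩ R hR hRn
    have hP : IsPGroup 2 ↥(R ⊔ cjg g A) :=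
      (ElemAbelian.isPGroup hR).to_sup_of_normal_right' (ElemAbelian.isPGroup (hel g)) hRn
    obtain ⟨x, hx, e⟩ := hex _ hP g le_sup_right
    show SqBound (cjg g A) R
    rw [e]
    have hinj := (MulAut.conj x).injective
    obtain ⟨R0, rfl⟩ : ∃ R0 : Subgroup G, cjg x R0 = R :=
      ⟨cjg x⁻¹ R, by rw [cjg, LocalChar.conj_map_conj_map, mul_inv_cancel, LocalChar.conj_map_one]⟩
    rw [sqBound_map hinj]
    have hR0 : R0 ≤ (S : Subgroup G) :=
      (map_le_map_iff_of_injective hinj).1 (le_sup_left.trans hx)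
    have hR0e : IsElementaryAbelian 2 R0 := (ElemAbelian.map_iff hinj).1 hR
    exact h.bound R0 hR0 (by rw [commutator_self_eq_bot_iff.2 hR0e.1]; exact bot_le)
      (fun r hr => by rw [hR0e.2 r hr]; exact one_mem _)

end Cfsg.Agent.Lib.GlaubermanStrong
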