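import Cfsg.Agent.Lib.GlaubermanStrong.Pairs

/-!
# The injective pairings of a maximal pair
-/

set_option autoImplicit false

namespace Cfsg.Agent.Lib.GlaubermanStrong

open Subgroup Cfsg GlaubermanTwo
open scoped commutatorElement

universe u

variable {G : Type u} [Group G]

theorem valid_conj {C D : Subgroup G} (g : G) : Valid (cjg g C) (cjg g D) ↔ Valid C D := by
  unfold Valid
  rw [cjg, cjg, LocalChar.normalizer_conj_map,
    ← Subgroup.map_inf _ _ _ (MulAut.conj g).injective,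
    map_le_map_iff_of_injective (MulAut.conj g).injective]

namespace MaxPair

variable [Finite G] {𝒜 : Set (Subgroup G)} {A A' : Subgroup G} (h : MaxPair 𝒜 A A')
include h

theorem ne : A ≠ A' := fun e => h.valid (e ▸ inf_le_left)

theorem A_not_le : ¬ A ≤ normalizer (A' : Set G) := by
  intro hle
  have : Fact (Nat.Prime 2) := ⟨Nat.prime_two⟩
  exact h.ne (h.fam.eq_of_le A h.mem A' h.mem' (A ⊔ A')
    ((ElemAbelian.isPGroup h.elemA).to_sup_of_normal_right' (ElemAbelian.isPGroup h.elemA') hle)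
    le_sup_left le_sup_right)

/-- A proper subgroup of `A` stable under `A' ∩ N(A)` has a fixed point outside modulo itself. -/
theorem exists_fixed {M : Subgroup G} (hM : M < A) (hI : A ⊓ A' ≤ M)
    (hst : ∀ y ∈ A' ⊓ normalizer (A : Set G), ∀ m ∈ M, ⁅y, m⁆ ∈ M) :
    ∃ a ∈ A, a ∉ M ∧ ∀ y ∈ A' ⊓ normalizer (A : Set G), ⁅y, a⁆ ∈ M := by
  have : Fact (Nat.Prime 2) := ⟨Nat.prime_two⟩
  set B' := A' ⊓ normalizer (A : Set G) with hB'
  have hB'M : B' ≤ normalizer (M : Set G) := fun y hy => by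
    refine LocalChar.mem_normalizer_of_conj_map_le ?_
    rintro _ ⟨m, hm, rfl⟩
    show y * m * y⁻¹ ∈ M
    have := mul_mem (hst y hy m hm) hm
    rwa [commutatorElement_def, inv_mul_cancel_right] at this
  have hP : IsPGroup 2 ↥(B' ⊔ A) :=
    ((ElemAbelian.isPGroup h.elemA').to_le inf_le_left).to_sup_of_normal_right'
      (ElemAbelian.isPGroup h.elemA) inf_le_right
  have hQA : (B' ⊔ M) ⊓ A ≤ M := by
    rintro x ⟨hx, hxA⟩
    replace hx : x ∈ ((B' ⊔ M : Subgroup G) : Set G) := hx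
    rw [coe_mul_of_left_le_normalizer_right _ _ hB'M] at hx
    obtain ⟨y, hy, m, hm, rfl⟩ := hx
    have hyA : y ∈ A := by
      have := A.mul_mem hxA (A.inv_mem (hM.le hm)); rwa [mul_inv_cancel_right] at this
    exact M.mul_mem (hI ⟨hyA, hy.1⟩) hm
  have hlt : B' ⊔ M < B' ⊔ A := lt_of_le_of_ne (sup_le_sup_left hM.le _) fun e =>
    hM.not_ge fun a ha => hQA ⟨e.ge (mem_sup_right ha), ha⟩
  obtain ⟨x, hx, hxQ⟩ := SetLike.exists_of_lt (Transfer.lt_inf_normalizer hP hlt)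
  obtain ⟨hx, hxn⟩ := hx
  replace hx : x ∈ ((B' ⊔ A : Subgroup G) : Set G) := hx
  rw [coe_mul_of_left_le_normalizer_right B' A inf_le_right] at hx
  obtain ⟨y0, hy0, a, ha, rfl⟩ := hx
  have han : a ∈ normalizer ((B' ⊔ M : Subgroup G) : Set G) := by
    have := mul_mem (inv_mem (Subgroup.le_normalizer (mem_sup_left hy0 : y0 ∈ B' ⊔ M))) hxn
    rwa [inv_mul_cancel_left] at this
  refine ⟨a, ha, fun haM => hxQ (mul_mem (mem_sup_left hy0) (mem_sup_right haM)), fun y hy => ?_⟩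
  refine hQA ⟨?_, h.delta_mem hy ha⟩
  rw [commutatorElement_def, mul_assoc, mul_assoc, ← mul_assoc a]
  exact mul_mem (mem_sup_left hy)
    ((mem_normalizer_iff.1 han _).1 (mem_sup_left (inv_mem hy)))

theorem delta_stable_B {y b : G} (hy : y ∈ A' ⊓ normalizer (A : Set G))
    (hb : b ∈ A ⊓ normalizer (A' : Set G)) : ⁅y, b⁆ ∈ A ⊓ normalizer (A' : Set G) :=
  h.inf_le_norm (h.delta_B hy hb)

/-- The preimage in `A` of the fixed points on `A / (A ∩ N(A'))`. -/
def fixGrp : Subgroup G where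
  carrier := {a | a ∈ A ∧ ∀ y ∈ A' ⊓ normalizer (A : Set G), ⁅y, a⁆ ∈ A ⊓ normalizer (A' : Set G)}
  one_mem' := ⟨one_mem _, fun y _ => by rw [commutatorElement_one_right]; exact one_mem _⟩
  mul_mem' := by
    rintro a b ⟨ha, hay⟩ ⟨hb, hby⟩
    exact ⟨mul_mem ha hb, fun y hy => by rw [h.delta_mul hy ha hb]; exact mul_mem (hay y hy) (hby y hy)⟩
  inv_mem' := by
    rintro a ⟨ha, hay⟩
    exact ⟨inv_mem ha, fun y hy => by rw [h.delta_inv hy ha]; exact inv_mem (hay y hy)⟩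

theorem B_le_fixGrp : A ⊓ normalizer (A' : Set G) ≤ h.fixGrp :=
  fun _ hb => ⟨hb.1, fun _ hy => h.delta_stable_B hy hb⟩

theorem fixGrp_le : h.fixGrp ≤ A := fun _ ha => ha.1

theorem exists_fix_notMem : ∃ a ∈ h.fixGrp, a ∉ normalizer (A' : Set G) := by
  obtain ⟨a, ha, haB, hay⟩ := h.exists_fixed (M := A ⊓ normalizer (A' : Set G))
    (lt_of_le_of_ne inf_le_left fun e => h.A_not_le (inf_eq_left.1 e)) h.inf_le_norm
    (fun y hy m hm => h.delta_stable_B hy hm)
  exact ⟨a, ⟨ha, hay⟩, fun hn => haB ⟨ha, hn⟩⟩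

theorem valid_symm : Valid A' A := by
  intro hle
  obtain ⟨a, ha, han⟩ := h.exists_fix_notMem
  exact han (h.mem_normalizer_of_delta ha.1 fun y hy => ⟨h.delta_mem hy ha.1, hle (ha.2 y hy)⟩)

theorem symm : MaxPair 𝒜 A' A where
  fam := h.fam
  mem := h.mem'
  mem' := h.mem
  valid := h.valid_symm
  max C hC D hD hv := by
    refine (h.max C hC D hD hv).trans (le_of_eq ?_)
    unfold meas
    rw [inf_comm A A', Nat.add_comm (Nat.card ↥(A ⊓ normalizer (A' : Set G)))]

/-- Outside `A ∩ N(A')` the pairing is injective. -/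
theorem injective_delta {a y : G} (ha : a ∈ h.fixGrp) (han : a ∉ normalizer (A' : Set G))
    (hy : y ∈ A' ⊓ normalizer (A : Set G)) (hd : ⁅y, a⁆ ∈ A ⊓ A') : y ∈ A ⊓ A' := by
  by_contra hyI
  obtain ⟨y1, hy1, hy1I⟩ : ∃ y1 ∈ A' ⊓ normalizer (A : Set G), ⁅y1, a⁆ ∉ A ⊓ A' := by
    by_contra hall
    push Not at hall
    exact han (h.mem_normalizer_of_delta ha.1 hall)
  set A'' := cjg a A' with hA''
  have hconj : ∀ z : G, a * z * a⁻¹ = ⁅z, a⁆⁻¹ * z := fun z => by
    rw [commutatorElement_def]; group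
  have hfix : ∀ i ∈ A ⊓ A', i ∈ A' ⊓ A'' := fun i hi => ⟨hi.2, i, hi.2, by
    show a * i * a⁻¹ = i
    rw [ElemAbelian.comm h.elemA ha.1 hi.1, mul_inv_cancel_right]⟩
  have hv : Valid A' A'' := by
    intro hle
    have h1 : a * y1 * a⁻¹ ∈ A' := hle ⟨⟨y1, hy1.1, rfl⟩, by
      rw [hconj]
      exact mul_mem (Subgroup.inv_mem _ (ha.2 y1 hy1).2) (Subgroup.le_normalizer hy1.1)⟩
    rw [hconj] at h1
    refine hy1I ⟨h.delta_mem hy1 ha.1, ?_⟩
    have := A'.mul_mem h1 (A'.inv_mem hy1.1)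
    rwa [mul_inv_cancel_right, inv_mem_iff] at this
  have hlt : A ⊓ A' < A' ⊓ A'' := by
    refine lt_of_le_of_ne hfix fun e => hyI ?_
    have h1 : a * y * a⁻¹ ∈ A' ⊓ A'' :=
      ⟨by rw [hconj]; exact A'.mul_mem (A'.inv_mem hd.2) hy.1, y, hy.1, rfl⟩
    rw [← e, hconj] at h1
    have := mul_mem hd h1
    rwa [mul_inv_cancel_left] at this
  refine (h.inter_le h.mem' (h.fam.conj A' h.mem' a) hv).not_gt ?_
  exact lt_of_le_of_ne (card_le_of_le hlt.le) fun e => hlt.ne (eq_of_le_of_card_ge hlt.le e.ge)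

/-- A homomorphism with kernel inside a subgroup bounds the index of the latter. -/
theorem card_B'_le :
    Nat.card ↥(A' ⊓ normalizer (A : Set G)) ≤ Nat.card ↥(A ⊓ normalizer (A' : Set G)) := by
  obtain ⟨a, ha, han⟩ := h.exists_fix_notMem
  set B := A ⊓ normalizer (A' : Set G) with hB
  set B' := A' ⊓ normalizer (A : Set G) with hB'
  set I := A ⊓ A' with hI
  have : (I.subgroupOf B).Normal := ⟨fun i hi b => by
    rw [ElemAbelian.comm h.elemA b.2.1 (mem_subgroupOf.1 hi).1 |> Subtype.ext (a1 := b * i)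
      (a2 := i * b), mul_inv_cancel_right]
    exact hi⟩
  let φ : B' →* B ⧸ I.subgroupOf B :=
    { toFun := fun y => QuotientGroup.mk' _ ⟨⁅(y : G), a⁆, ha.2 y y.2⟩
      map_one' := by
        rw [QuotientGroup.mk'_apply, QuotientGroup.eq_one_iff, mem_subgroupOf]
        show ⁅(1 : G), a⁆ ∈ I
        rw [commutatorElement_one_left]; exact one_mem _
      map_mul' := fun y y' => by
        rw [← map_mul]
        refine (QuotientGroup.eq.2 ?_).symm
        rw [mem_subgroupOf]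
        show (⁅(y : G), a⁆ * ⁅(y' : G), a⁆)⁻¹ * ⁅(y : G) * (y' : G), a⁆ ∈ I
        have h1 := h.delta_mem y.2 ha.1
        have h2 := h.delta_mem y'.2 ha.1
        have h3 := h.delta_mem y.2 h2
        rw [delta_mul_left, mul_assoc ⁅(y : G), ⁅(y' : G), a⁆⁆, ElemAbelian.comm h.elemA h2 h1,
          ElemAbelian.comm h.elemA h3 (mul_mem h1 h2), inv_mul_cancel_left]
        exact h.delta_B y.2 (ha.2 y' y'.2) }
  have hker : φ.ker = I.subgroupOf B' := by
    ext y
    constructor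
    · intro hy
      refine mem_subgroupOf.2 (h.injective_delta ha han y.2 ?_)
      exact mem_subgroupOf.1 ((QuotientGroup.eq_one_iff _).1 (MonoidHom.mem_ker.1 hy))
    · intro hy
      refine MonoidHom.mem_ker.2 ((QuotientGroup.eq_one_iff _).2 (mem_subgroupOf.2 ?_))
      show ⁅(y : G), a⁆ ∈ I
      have : ⁅(y : G), a⁆ = 1 :=
        commutatorElement_eq_one_iff_mul_comm.2 (ElemAbelian.comm h.elemA (mem_subgroupOf.1 hy).1 ha.1)
      rw [this]; exact one_mem _
  have c1 := Subgroup.card_eq_card_quotient_mul_card_subgroup φ.ker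
  have c2 := Subgroup.card_eq_card_quotient_mul_card_subgroup (I.subgroupOf B)
  rw [c1, c2, hker, Nat.card_congr (subgroupOfEquivOfLe h.inf_le_norm').toEquiv,
    Nat.card_congr (subgroupOfEquivOfLe h.inf_le_norm).toEquiv]
  refine Nat.mul_le_mul_right _ ?_
  rw [← hker]
  exact (Nat.card_congr (QuotientGroup.quotientKerEquivRange φ).toEquiv).le.trans
    (card_le_card_group _)

theorem card_B_eq :
    Nat.card ↥(A' ⊓ normalizer (A : Set G)) = Nat.card ↥(A ⊓ normalizer (A' : Set G)) :=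
  le_antisymm h.card_B'_le h.symm.card_B'_le

theorem card_I_lt : Nat.card ↥(A ⊓ A') < Nat.card ↥(A ⊓ normalizer (A' : Set G)) := by
  refine lt_of_le_of_ne (card_le_of_le h.inf_le_norm) fun e => h.valid_symm ?_
  exact (eq_of_le_of_card_ge h.inf_le_norm e.ge).ge.trans inf_le_right

end MaxPair

end Cfsg.Agent.Lib.GlaubermanStrong
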