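import Cfsg.Agent.Lib.GlaubermanStrong.Inject

/-!
# The local bound for a maximal pair
-/

set_option autoImplicit false

namespace Cfsg.Agent.Lib.GlaubermanStrong

open Subgroup Cfsg GlaubermanTwo
open scoped commutatorElement

universe u

variable {G : Type u} [Group G] [Finite G] {𝒜 : Set (Subgroup G)} {A A' : Subgroup G}

namespace MaxPair

variable (h : MaxPair 𝒜 A A')
include h

theorem fixGrp_le_normalizer_sup :
    h.fixGrp ≤ normalizer (((A' ⊓ normalizer (A : Set G)) ⊔ (A ⊓ normalizer (A' : Set G)) :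
      Subgroup G) : Set G) := by
  intro a ha
  refine LocalChar.mem_normalizer_of_conj_map_le ?_
  rw [Subgroup.map_sup]
  refine sup_le ?_ ?_
  · rintro _ ⟨y, hy, rfl⟩
    show a * y * a⁻¹ ∈ _
    rw [show a * y * a⁻¹ = ⁅y, a⁆⁻¹ * y by rw [commutatorElement_def]; group]
    exact mul_mem (mem_sup_right (inv_mem (ha.2 y hy))) (mem_sup_left hy)
  · rintro _ ⟨b, hb, rfl⟩
    show a * b * a⁻¹ ∈ _
    rw [ElemAbelian.comm h.elemA ha.1 hb.1, mul_inv_cancel_right]
    exact mem_sup_right hb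

set_option maxHeartbeats 1600000 in
theorem fix_bound (hfree : ¬ Involves (Equiv.Perm (Fin 4)) G) (hsec : SectionHyp G) :
    Nat.card h.fixGrp ^ 2 * Nat.card ↥(A ⊓ A') ≤
      Nat.card ↥(A ⊓ normalizer (A' : Set G)) ^ 3 := by
  have : Fact (Nat.Prime 2) := ⟨Nat.prime_two⟩
  set B := A ⊓ normalizer (A' : Set G) with hB
  set B' := A' ⊓ normalizer (A : Set G) with hB'
  set I := A ⊓ A' with hI
  set K := B' ⊔ B with hK
  set Y0 := h.fixGrp ⊔ h.symm.fixGrp with hY0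
  have hBB' : B ≤ normalizer (B' : Set G) := fun b hb => by
    refine LocalChar.mem_normalizer_of_conj_map_le ?_
    rintro _ ⟨y, hy, rfl⟩
    show b * y * b⁻¹ ∈ B'
    rw [show b * y * b⁻¹ = ⁅y, b⁆⁻¹ * y by rw [commutatorElement_def]; group]
    exact mul_mem (h.inf_le_norm' (inv_mem (h.delta_B hy hb))) hy
  have hmemK : ∀ z ∈ K, ∃ y ∈ B', ∃ b ∈ B, z = y * b := fun z hz => by
    have hz' : z ∈ ((B' ⊔ B : Subgroup G) : Set G) := hz
    rw [coe_mul_of_right_le_normalizer_left B' B hBB'] at hz'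
    obtain ⟨y, hy, b, hb, rfl⟩ := hz'
    exact ⟨y, hy, b, hb, rfl⟩
  have hKY0 : K ≤ Y0 :=
    sup_le (h.symm.B_le_fixGrp.trans le_sup_right) (h.B_le_fixGrp.trans le_sup_left)
  have hY0n : Y0 ≤ normalizer (K : Set G) := by
    refine sup_le h.fixGrp_le_normalizer_sup ?_
    rw [hK, sup_comm]
    exact h.symm.fixGrp_le_normalizer_sup
  have hY0I : Y0 ≤ centralizer (I : Set G) := sup_le
    (fun a ha => mem_centralizer_iff.2 fun i hi => ElemAbelian.comm h.elemA (mem_inf.1 hi).1 ha.1)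
    (fun a ha => mem_centralizer_iff.2 fun i hi => ElemAbelian.comm h.elemA' (mem_inf.1 hi).2 ha.1)
  have hKp : IsPGroup 2 K := ((ElemAbelian.isPGroup h.elemA').to_le inf_le_left).to_sup_of_normal_left'
    ((ElemAbelian.isPGroup h.elemA).to_le inf_le_left) hBB'
  obtain ⟨T0, hT0⟩ := (hKp.comap_subtype (K := Y0)).exists_le_sylow
  set T := (T0 : Subgroup Y0).map Y0.subtype with hT
  have hKT : K ≤ T := fun z hz => ⟨⟨z, hKY0 hz⟩, hT0 (mem_subgroupOf.2 hz), rfl⟩
  obtain ⟨Y, hYY0, hTY, hcov, R, hRn, hRc, hRo, hchr, hfree', hres⟩ :=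
    exists_model hfree hsec hKT (map_subtype_le _) hY0n (T0.2.map _)
      (by rw [hT, relIndex, subgroupOf, comap_map_eq_self_of_injective Y0.subtype_injective]
          exact T0.not_dvd_index)
  set f := QuotientGroup.mk' R with hf
  have hfs : Function.Surjective f := QuotientGroup.mk'_surjective R
  have hKY : K ≤ Y := hKT.trans hTY
  have hIK : I ≤ K := h.inf_le_norm.trans le_sup_right
  have hYI : Y ≤ normalizer (I : Set G) :=
    (hYY0.trans hY0I).trans (centralizer_le_normalizer _)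
  set Ib := (I.subgroupOf Y).map f with hIb
  have hIbn : Ib.Normal :=
    Subgroup.Normal.map (normal_subgroupOf_of_le_normalizer hYI) f hfs
  set F := (QuotientGroup.mk' Ib).comp f with hF
  have hFs : Function.Surjective F := (QuotientGroup.mk'_surjective Ib).comp hfs
  have hkerK : ∀ z : Y, (z : G) ∈ K → (F z = 1 ↔ (z : G) ∈ I) := by
    intro z hz
    constructor
    · intro h1
      obtain ⟨i, hi, e⟩ : f z ∈ Ib := (QuotientGroup.eq_one_iff _).1 h1
      have h2 : i⁻¹ * z ∈ K.subgroupOf Y ⊓ R :=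
        ⟨Subgroup.mul_mem _ (Subgroup.inv_mem _ (mem_subgroupOf.2 (hIK hi))) (mem_subgroupOf.2 hz),
          (QuotientGroup.eq (s := R)).1 e⟩
      rw [PSolvable.inf_eq_bot_of_isPGroup_of_coprime
        (hKp.of_equiv (subgroupOfEquivOfLe hKY).symm)
        ((Nat.prime_two.coprime_iff_not_dvd).2 hRo).symm, mem_bot, inv_mul_eq_one] at h2
      exact h2 ▸ hi
    · intro h1
      exact (QuotientGroup.eq_one_iff _).2 ⟨z, mem_subgroupOf.2 h1, rfl⟩
  set Kb := (K.subgroupOf Y).map F with hKb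
  have hKbn : Kb.Normal :=
    Subgroup.Normal.map (normal_subgroupOf_of_le_normalizer (hYY0.trans hY0n)) F hFs
  set Bb := (B.subgroupOf Y).map F with hBb
  have hBY : B ≤ Y := le_sup_right.trans hKY
  have hB'Y : B' ≤ Y := le_sup_left.trans hKY
  have hKbe : IsElementaryAbelian 2 Kb := by
    rw [hKb, hK, subgroupOf_sup hB'Y hBY, Subgroup.map_sup]
    refine ElemAbelian.sup
      (ElemAbelian.map (ElemAbelian.comap (ElemAbelian.mono h.elemA' inf_le_left) Y.subtype_injective) F)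
      (ElemAbelian.map (ElemAbelian.comap (ElemAbelian.mono h.elemA inf_le_left) Y.subtype_injective) F) ?_
    rintro _ ⟨y, hy, rfl⟩
    refine mem_centralizer_iff.2 ?_
    rintro _ ⟨b, hb, rfl⟩
    rw [eq_comm, ← commutatorElement_eq_one_iff_mul_comm, ← map_commutatorElement]
    have h1 : ((⁅y, b⁆ : Y) : G) ∈ I := h.delta_B hy hb
    exact (hkerK _ (hIK h1)).2 h1
  have hKb1 : Kb ≠ ⊥ := by
    intro e
    refine h.card_I_lt.not_ge (card_le_of_le fun b hb => ?_)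
    have : F ⟨b, hBY hb⟩ = 1 := mem_bot.1 (e ▸ mem_map_of_mem F
      (mem_subgroupOf.2 (mem_sup_right hb : (b : G) ∈ K) : (⟨b, hBY hb⟩ : Y) ∈ K.subgroupOf Y))
    exact (hkerK ⟨b, hBY hb⟩ (mem_sup_right hb)).1 this
  obtain ⟨W, ⟨hWn, hWK, hW1⟩, hWmin⟩ := (Set.toFinite
    {N : Subgroup ((Y ⧸ R) ⧸ Ib) | N.Normal ∧ N ≤ Kb ∧ N ≠ ⊥}).exists_minimal ⟨Kb, hKbn, le_rfl, hKb1⟩
  have hWe : IsElementaryAbelian 2 W := ElemAbelian.mono hKbe hWK
  have hO := pCore_quotient_eq_bot_of_minimal hWe hW1 fun N hN hNW =>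
    or_iff_not_imp_left.2 fun hne => le_antisymm hNW (hWmin ⟨hN, hNW.trans hWK, hne⟩ hNW)
  have hconj : ∀ a ∈ Y0, ∀ m : G, a⁻¹ * m ∈ centralizer (K : Set G) → ∀ z ∈ K,
      m * z * m⁻¹ = a * z * a⁻¹ := by
    intro a _ m hm z hz
    have := mem_centralizer_iff.1 hm z hz
    calc m * z * m⁻¹ = a * ((a⁻¹ * m) * z) * m⁻¹ := by group
      _ = a * (z * (a⁻¹ * m)) * m⁻¹ := by rw [this]
      _ = _ := by group
  have hCW : ∀ m : Y, (m : G) ∈ centralizer (K : Set G) → F m ∈ centralizer (W : Set _) := by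
    intro m hm
    refine mem_centralizer_iff.2 fun w hw => ?_
    obtain ⟨z, hz, rfl⟩ := hWK hw
    rw [← map_mul, ← map_mul]
    exact congrArg F (Subtype.ext (mem_centralizer_iff.1 hm _ hz))
  -- some element of `W` lies outside the image of `B`
  obtain ⟨z0, hz0, hz0W, hz0B⟩ : ∃ z : Y, (z : G) ∈ K ∧ F z ∈ W ∧ (z : G) ∉ B := by
    by_contra hall
    push Not at hall
    obtain ⟨a', ha', ha'n⟩ := h.symm.exists_fix_notMem
    obtain ⟨m, hm, ham⟩ := hcov a' (mem_sup_right ha')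
    refine hW1 ((Subgroup.eq_bot_iff_forall _).2 fun w hw => ?_)
    obtain ⟨z, hz, rfl⟩ := hWK hw
    have hzB := hall z hz hw
    refine (hkerK z hz).2 ?_
    have h1 : F (⟨m, hm⟩ * z * ⟨m, hm⟩⁻¹) ∈ W := by
      rw [map_mul, map_mul, map_inv]; exact hWn.conj_mem _ hw _
    have e := hconj a' (mem_sup_right ha') m ham z hz
    have h2 : a' * (z : G) * a'⁻¹ ∈ B := by
      refine e ▸ hall _ ?_ h1
      show m * (z : G) * m⁻¹ ∈ K
      rw [e]
      exact (mem_normalizer_iff.1 (hY0n (mem_sup_right ha')) _).1 hz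
    rw [show a' * (z : G) * a'⁻¹ = ⁅(z : G), a'⁆⁻¹ * z by rw [commutatorElement_def]; group] at h2
    have h3 : ⁅(z : G), a'⁆ ∈ B := by
      have := mul_mem h2 (inv_mem hzB)
      rwa [mul_inv_cancel_right, inv_mem_iff] at this
    have h4 := h.symm.injective_delta ha' ha'n hzB ⟨(ha'.2 _ hzB).1, h3.1⟩
    exact ⟨h4.2, h4.1⟩
  obtain ⟨y0, hy0, b0, hb0, hz0e⟩ := hmemK _ hz0
  have hy0I : y0 ∉ I := fun hy => hz0B (hz0e ▸ mul_mem (h.inf_le_norm hy) hb0)
  have hdelta : ∀ a ∈ h.fixGrp, ∀ y ∈ B', ∀ b ∈ B, y * b * a * (y * b)⁻¹ * a⁻¹ = ⁅y, a⁆ := by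
    intro a ha y _ b hb
    rw [mul_inv_rev, mul_assoc y b a, ElemAbelian.comm h.elemA hb.1 ha.1, commutatorElement_def]
    group
  have hfaith : ∀ a ∈ h.fixGrp, ∀ m : Y, a⁻¹ * (m : G) ∈ centralizer (K : Set G) →
      F m ∈ centralizer (W : Set _) → a ∈ B := by
    intro a ha m ham hm
    refine ⟨ha.1, by_contra fun han => hy0I (h.injective_delta ha han hy0 ?_)⟩
    have h1 : ((⁅z0, m⁆ : Y) : G) = ⁅y0, a⁆ := by
      show (z0 : G) * m * (z0 : G)⁻¹ * (m : G)⁻¹ = _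
      rw [mul_assoc (z0 : G) m, mul_assoc (z0 : G) ((m : G) * _),
        hconj a (mem_sup_left ha) m ham _ (inv_mem hz0), ← mul_assoc, ← mul_assoc, hz0e,
        hdelta a ha y0 hy0 b0 hb0]
    have h2 : F ⁅z0, m⁆ = 1 := by
      rw [map_commutatorElement, commutatorElement_eq_one_iff_mul_comm]
      exact mem_centralizer_iff.1 hm _ hz0W
    exact h1 ▸ (hkerK _ (h1 ▸ mem_sup_right (ha.2 y0 hy0))).1 h2
  set X1 := ((h.fixGrp ⊔ centralizer (K : Set G)).subgroupOf Y).map F with hX1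
  have hX1mem : ∀ x ∈ X1, ∃ a ∈ h.fixGrp, ∃ m : Y,
      a⁻¹ * (m : G) ∈ centralizer (K : Set G) ∧ F m = x := by
    rintro _ ⟨m, hm, rfl⟩
    replace hm : (m : G) ∈ ((h.fixGrp ⊔ centralizer (K : Set G) : Subgroup G) : Set G) := hm
    rw [coe_mul_of_left_le_normalizer_right h.fixGrp (centralizer (K : Set G))
      (LocalChar.le_normalizer_centralizer_of_le ((le_sup_left : h.fixGrp ≤ Y0).trans hY0n))] at hm
    obtain ⟨a, ha, c, hc, e⟩ := hm
    exact ⟨a, ha, m, by rw [show (m : G) = a * c from e.symm, inv_mul_cancel_left]; exact hc, rfl⟩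
  have hb2 := (module_bound (fun hi => hfree' (Involves.of_quotient (QuotientGroup.mk' Ib)
    (QuotientGroup.mk'_surjective Ib) hi)) (hres.of_surjective _ (QuotientGroup.mk'_surjective Ib))
    hWe hO X1 ?_ ?_).2
  rotate_left
  · rw [commutator_le]
    intro x hx x' hx'
    obtain ⟨a, ha, m, ham, rfl⟩ := hX1mem x hx
    obtain ⟨a', ha', m', ham', rfl⟩ := hX1mem x' hx'
    rw [← map_commutatorElement]
    refine hCW _ (mem_centralizer_iff.2 fun z hz => ?_)
    have hn : ∀ c ∈ h.fixGrp, ∀ w ∈ K, c * w * c⁻¹ ∈ K := fun c hc w hw =>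
      (mem_normalizer_iff.1 (hY0n (mem_sup_left hc)) w).1 hw
    have e1 : ∀ (c c' : G) (n n' : Y), c ∈ h.fixGrp → c' ∈ h.fixGrp →
        c⁻¹ * (n : G) ∈ centralizer (K : Set G) → c'⁻¹ * (n' : G) ∈ centralizer (K : Set G) →
        ∀ w ∈ K, ((n : G) * n') * w * ((n : G) * n')⁻¹ = (c * c') * w * (c * c')⁻¹ := by
      intro c c' n n' hc hc' hn1 hn2 w hw
      calc ((n : G) * n') * w * ((n : G) * n')⁻¹ = (n : G) * ((n' : G) * w * (n' : G)⁻¹) * (n : G)⁻¹ := by
            group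
        _ = (n : G) * (c' * w * c'⁻¹) * (n : G)⁻¹ := by rw [hconj c' (mem_sup_left hc') _ hn2 w hw]
        _ = c * (c' * w * c'⁻¹) * c⁻¹ := hconj c (mem_sup_left hc) _ hn1 _ (hn c' hc' w hw)
        _ = _ := by group
    have key : ∀ w ∈ K, (m : G) * m' * w * ((m : G) * m')⁻¹ = (m' : G) * m * w * ((m' : G) * m)⁻¹ := by
      intro w hw
      rw [e1 a a' m m' ha ha' ham ham' w hw, e1 a' a m' m ha' ha ham' ham w hw,
        ElemAbelian.comm h.elemA ha.1 ha'.1]
    set w := ((m' : G) * m)⁻¹ * z * ((m' : G) * m) with hw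
    have hwK : w ∈ K := by
      have h1 := hY0n (hYY0 (mul_mem m'.2 m.2))
      exact LocalChar.conj_mem_of_mem_normalizer' h1 hz
    have := key w hwK
    rw [show (m' : G) * m * w * ((m' : G) * m)⁻¹ = z by rw [hw]; group] at this
    show z * ((m : G) * m' * (m : G)⁻¹ * (m' : G)⁻¹) = ((m : G) * m' * (m : G)⁻¹ * (m' : G)⁻¹) * z
    conv_lhs => rw [← this]
    rw [hw]
    group
  · intro x hx
    obtain ⟨a, ha, m, ham, rfl⟩ := hX1mem x hx
    rw [← map_pow]
    refine hCW _ (mem_centralizer_iff.2 fun z hz => ?_)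
    have h1 := hconj a (mem_sup_left ha) m ham z hz
    have h2 := hconj a (mem_sup_left ha) m ham (a * z * a⁻¹)
      ((mem_normalizer_iff.1 (hY0n (mem_sup_left ha)) z).1 hz)
    have ha2 : a * a = 1 := by rw [← pow_two]; exact h.elemA.2 a ha.1
    have e : (m : G) * m * z * ((m : G) * m)⁻¹ = z := by
      calc (m : G) * m * z * ((m : G) * m)⁻¹ = (m : G) * ((m : G) * z * (m : G)⁻¹) * (m : G)⁻¹ := by
            group
        _ = (a * a) * z * (a * a)⁻¹ := by rw [h1, h2]; group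
        _ = z := by rw [ha2]; group
    rw [mul_inv_eq_iff_eq_mul] at e
    rw [SubmonoidClass.coe_pow, pow_two]
    exact e.symm
  have hcomm : ⁅W, X1⁆ ≤ Bb := by
    rw [commutator_le]
    intro w hw x hx
    obtain ⟨z, hz, rfl⟩ := hWK hw
    obtain ⟨a, ha, m, ham, rfl⟩ := hX1mem x hx
    replace hz : (z : G) ∈ K := hz
    obtain ⟨y, hy, b, hb, hze⟩ := hmemK _ hz
    rw [← map_commutatorElement]
    refine mem_map_of_mem F ?_
    show (z : G) * m * (z : G)⁻¹ * (m : G)⁻¹ ∈ B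
    rw [mul_assoc (z : G) m, mul_assoc (z : G) ((m : G) * _),
      hconj a (mem_sup_left ha) m ham _ (inv_mem hz), ← mul_assoc, ← mul_assoc, hze,
      hdelta a ha y hy b hb]
    exact ha.2 y hy
  have hBbcard : Nat.card Bb * Nat.card I = Nat.card B := by
    have e := SFourFree.card_map_mul F (B.subgroupOf Y)
    have e2 : B.subgroupOf Y ⊓ F.ker = I.subgroupOf Y := by
      ext z
      refine ⟨fun hz => (hkerK z (mem_sup_right hz.1)).1 hz.2, fun hz => ?_⟩
      exact ⟨h.inf_le_norm hz, (hkerK z (hIK hz)).2 hz⟩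
    rw [e2, Nat.card_congr (subgroupOfEquivOfLe hBY).toEquiv,
      Nat.card_congr (subgroupOfEquivOfLe (hIK.trans hKY)).toEquiv] at e
    exact e
  choose r hrY hr using fun a : h.fixGrp => hcov a (mem_sup_left a.2)
  have hrX : ∀ a : h.fixGrp, F ⟨r a, hrY a⟩ ∈ X1 := fun a => mem_map_of_mem F (mem_subgroupOf.2 (by
    have := mul_mem (mem_sup_left a.2 : (a : G) ∈ h.fixGrp ⊔ centralizer (K : Set G))
      (mem_sup_right (hr a))
    simpa using this))
  set CW := (centralizer (W : Set ((Y ⧸ R) ⧸ Ib))).subgroupOf X1 with hCWdef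
  have hq : Nat.card (h.fixGrp ⧸ B.subgroupOf h.fixGrp) ≤ Nat.card (X1 ⧸ CW) := by
    refine Nat.card_le_card_of_injective
      (fun q => ((⟨F ⟨r q.out, hrY q.out⟩, hrX q.out⟩ : X1) : X1 ⧸ CW)) fun p q e => ?_
    rw [QuotientGroup.eq, hCWdef, mem_subgroupOf] at e
    rw [← Quotient.out_eq p, ← Quotient.out_eq q]
    refine QuotientGroup.eq.2 (mem_subgroupOf.2 ?_)
    refine hfaith _ (p.out⁻¹ * q.out).2 (⟨r p.out, hrY p.out⟩⁻¹ * ⟨r q.out, hrY q.out⟩) ?_ ?_
    · show ((p.out : G)⁻¹ * (q.out : G))⁻¹ * ((r p.out)⁻¹ * r q.out) ∈ centralizer (K : Set G)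
      have hnq : (q.out : G)⁻¹ * (p.out : G) ∈ normalizer (centralizer (K : Set G) : Set G) :=
        LocalChar.le_normalizer_centralizer_of_le hY0n
          (mem_sup_left (mul_mem (inv_mem q.out.2) p.out.2))
      rw [show ((p.out : G)⁻¹ * (q.out : G))⁻¹ * ((r p.out)⁻¹ * r q.out) =
        ((q.out : G)⁻¹ * (p.out : G)) * ((p.out : G)⁻¹ * r p.out)⁻¹ *
          ((q.out : G)⁻¹ * (p.out : G))⁻¹ * ((q.out : G)⁻¹ * r q.out) by group]
      exact mul_mem (LocalChar.conj_mem_of_mem_normalizer hnq (inv_mem (hr _))) (hr _)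
    · rw [map_mul, map_inv]; exact e
  have c1 := Subgroup.card_eq_card_quotient_mul_card_subgroup (B.subgroupOf h.fixGrp)
  have c2 := Subgroup.card_eq_card_quotient_mul_card_subgroup CW
  rw [Nat.card_congr (subgroupOfEquivOfLe h.B_le_fixGrp).toEquiv] at c1
  have e3 : Nat.card CW = Nat.card ↥(X1 ⊓ centralizer (W : Set ((Y ⧸ R) ⧸ Ib))) := by
    rw [hCWdef, ← inf_subgroupOf_right (centralizer (W : Set ((Y ⧸ R) ⧸ Ib))) X1, inf_comm,
      Nat.card_congr (subgroupOfEquivOfLe inf_le_left).toEquiv]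
  rw [e3] at c2
  rw [c2, mul_pow] at hb2
  have hb3 : Nat.card (X1 ⧸ CW) ^ 2 ≤ Nat.card Bb :=
    Nat.le_of_mul_le_mul_right (hb2.trans (Nat.mul_le_mul_right _ (card_le_of_le hcomm)))
      (pow_pos Nat.card_pos 2)
  calc Nat.card h.fixGrp ^ 2 * Nat.card I
      = Nat.card (h.fixGrp ⧸ B.subgroupOf h.fixGrp) ^ 2 * Nat.card I * Nat.card B ^ 2 := by
        rw [c1]; ring
    _ ≤ Nat.card Bb * Nat.card I * Nat.card B ^ 2 :=
        Nat.mul_le_mul_right _ (Nat.mul_le_mul_right _ ((Nat.pow_le_pow_left hq 2).trans hb3))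
    _ = _ := by rw [hBbcard]; ring

end MaxPair

end Cfsg.Agent.Lib.GlaubermanStrong
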