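import Cfsg.Agent.Lib.GlaubermanTwo.KGroup
import Cfsg.Agent.Lib.PSolvable.Core
import Cfsg.Agent.Lib.PGroup.SylowNormal
import Cfsg.Agent.Lib.LocalChar.Basic
import Cfsg.Agent.Lib.Involves.Basic

/-!
# Constrained models of local subgroups

A subgroup acting on a 2-group `K` has the same action as a subgroup `Y` which, modulo a normal
subgroup of odd order centralising `K`, is 2-constrained.
-/

set_option autoImplicit false

namespace Cfsg.Agent.Lib.GlaubermanStrong

open Subgroup Cfsg GlaubermanTwo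

universe u

/-- Every constrained section is restricted. -/
def SectionHyp (G : Type u) [Group G] : Prop :=
  ∀ (K R : Subgroup G) [_hR : (R.subgroupOf K).Normal],
    centralizer (pCore 2 (K ⧸ R.subgroupOf K) : Set (K ⧸ R.subgroupOf K)) ≤
        pCore 2 (K ⧸ R.subgroupOf K) →
      IsCompositionKGroupWith IsSuzukiOrPSL2OddPowerThree (K ⧸ R.subgroupOf K)

variable {G : Type u} [Group G] [Finite G]

theorem chr_congr {X W : Type u} [Group X] [Group W] (e : X ≃* W)
    (h : centralizer (pCore 2 W : Set W) ≤ pCore 2 W) :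
    centralizer (pCore 2 X : Set X) ≤ pCore 2 X := by
  intro x hx
  have h1 : e x ∈ pCore 2 W := h (mem_centralizer_iff.2 fun w hw => by
    obtain ⟨z, hz, rfl⟩ := (PSolvable.map_pCore_equiv (p := 2) e).ge hw
    show e z * e x = e x * e z
    rw [← map_mul, ← map_mul, mem_centralizer_iff.1 hx z hz])
  obtain ⟨z, hz, hzx⟩ := (PSolvable.map_pCore_equiv (p := 2) e).ge h1
  rwa [e.injective hzx] at hz

theorem exists_sylowIn {T Y : Subgroup G} (hTY : T ≤ Y) (hT : IsPGroup 2 T)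
    (h : ¬ 2 ∣ T.relIndex Y) : ∃ P : Sylow 2 Y, (P : Subgroup Y) = T.subgroupOf Y := by
  have : Fact (Nat.Prime 2) := ⟨Nat.prime_two⟩
  refine ⟨(hT.of_equiv (subgroupOfEquivOfLe hTY).symm).toSylow h, rfl⟩

theorem exists_model (hfree : ¬ Involves (Equiv.Perm (Fin 4)) G) (hsec : SectionHyp G)
    {K Y0 T : Subgroup G} (hKT : K ≤ T) (hTY : T ≤ Y0) (hY0 : Y0 ≤ normalizer (K : Set G))
    (hT : IsPGroup 2 T) (hTi : ¬ 2 ∣ T.relIndex Y0) :
    ∃ Y : Subgroup G, Y ≤ Y0 ∧ T ≤ Y ∧
      (∀ y ∈ Y0, ∃ m ∈ Y, y⁻¹ * m ∈ centralizer (K : Set G)) ∧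
      ∃ (R : Subgroup Y) (_hR : R.Normal), (∀ r ∈ R, (r : G) ∈ centralizer (K : Set G)) ∧
        ¬ 2 ∣ Nat.card R ∧
        centralizer (pCore 2 (Y ⧸ R) : Set (Y ⧸ R)) ≤ pCore 2 (Y ⧸ R) ∧
        ¬ Involves (Equiv.Perm (Fin 4)) (Y ⧸ R) ∧ Restricted (Y ⧸ R) := by
  have : Fact (Nat.Prime 2) := ⟨Nat.prime_two⟩
  set P := T ⊓ centralizer (K : Set G) with hP
  set Q := K ⊔ P with hQ
  have hTK : T ≤ normalizer (K : Set G) := hTY.trans hY0
  have hTP : T ≤ normalizer (P : Set G) :=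
    LocalChar.le_normalizer_inf_of_le le_normalizer (LocalChar.le_normalizer_centralizer_of_le hTK)
  set Y := Y0 ⊓ normalizer (P : Set G) with hY
  have hTY' : T ≤ Y := le_inf hTY hTP
  have hYQ : Y ≤ normalizer (Q : Set G) :=
    LocalChar.le_normalizer_sup_of_le (inf_le_left.trans hY0) inf_le_right
  have hQT : Q ≤ T := sup_le hKT inf_le_left
  have hQc : T ⊓ centralizer (Q : Set G) ≤ Q :=
    (inf_le_inf_left T (centralizer_le (SetLike.coe_subset_coe.2 le_sup_left))).trans le_sup_right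
  refine ⟨Y, inf_le_left, hTY', ?_, ?_⟩
  · intro y hy
    obtain ⟨TS, hTS⟩ := exists_sylowIn hTY hT hTi
    set C0 : Subgroup Y0 := (centralizer (K : Set G)).subgroupOf Y0 with hC0
    have : C0.Normal := normal_subgroupOf_of_le_normalizer
      (LocalChar.le_normalizer_centralizer_of_le hY0)
    have hg : (⟨y, hy⟩ : Y0) ∈ normalizer (((TS : Subgroup Y0) ⊓ C0 : Subgroup Y0) : Set Y0) ⊔ C0 :=
      (SylowNormal.normalizer_inf_sup TS C0).ge (mem_top _)
    obtain ⟨n, hn, c, hc, e⟩ := mem_sup_of_normal_right.1 hg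
    have hnP : (n : G) ∈ normalizer (P : Set G) := by
      refine LocalChar.mem_normalizer_of_conj_map_le ?_
      rintro _ ⟨x, hx, rfl⟩
      have hxm : (⟨x, hTY hx.1⟩ : Y0) ∈ (TS : Subgroup Y0) ⊓ C0 :=
        ⟨hTS.ge (mem_subgroupOf.2 hx.1), mem_subgroupOf.2 hx.2⟩
      have h2 := (mem_normalizer_iff.1 hn _).1 hxm
      exact ⟨mem_subgroupOf.1 (hTS.le h2.1), mem_subgroupOf.1 h2.2⟩
    refine ⟨n, ⟨n.2, hnP⟩, ?_⟩
    have e' : (n : G) * c = y := congrArg Subtype.val e
    rw [← e', mul_inv_rev, mul_assoc, inv_mul_cancel, mul_one]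
    exact inv_mem hc
  obtain ⟨TY, hTYs⟩ := exists_sylowIn hTY' hT
    fun h => hTi (h.trans (Dvd.intro _ (relIndex_mul_relIndex T Y Y0 hTY' inf_le_left)))
  set Cy : Subgroup Y := (centralizer (Q : Set G)).subgroupOf Y with hCy
  have hCyn : Cy.Normal := normal_subgroupOf_of_le_normalizer
    (LocalChar.le_normalizer_centralizer_of_le hYQ)
  obtain ⟨P', hP'⟩ := SylowNormal.exists_sylow_map_eq_inf TY Cy
  have hPQ : ∀ z ∈ (P' : Subgroup Cy), ((z : Y) : G) ∈ Q := by
    intro z hz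
    have h1 := hP'.le (mem_map_of_mem Cy.subtype hz)
    exact hQc ⟨mem_subgroupOf.1 (hTYs.le h1.1), mem_subgroupOf.1 h1.2⟩
  have hPc : normalizer ((P' : Subgroup Cy) : Set Cy) ≤ centralizer ((P' : Subgroup Cy) : Set Cy) :=
    fun x _ => mem_centralizer_iff.2 fun z hz => Subtype.ext (Subtype.ext
      (mem_centralizer_iff.1 (mem_subgroupOf.1 x.2) _ (hPQ z hz)))
  have hcomp := MonoidHom.ker_transferSylow_isComplement' P' hPc
  set R1 := (MonoidHom.transferSylow P' hPc).ker with hR1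
  have hR1o : (Nat.card R1).Coprime 2 := by
    rw [← hcomp.index_eq_card]
    exact ((Nat.prime_two.coprime_iff_not_dvd).2 P'.not_dvd_index).symm
  have hR1le : R1 ≤ pPrimeCore 2 Cy := PSolvable.le_pPrimeCore hR1o
  set R := (pPrimeCore 2 Cy).map Cy.subtype with hR
  have hRn : R.Normal := PSolvable.map_subtype_pPrimeCore_normal Cy
  have hRodd : ¬ 2 ∣ Nat.card R := by
    rw [hR, card_map_of_injective Cy.subtype_injective]
    exact Nat.prime_two.coprime_iff_not_dvd.1 PSolvable.pPrimeCore_coprime.symm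
  have hRQ : ∀ r ∈ R, (r : G) ∈ centralizer (Q : Set G) := by
    rintro _ ⟨r, -, rfl⟩
    exact mem_subgroupOf.1 r.2
  have hchr : centralizer (pCore 2 (Y ⧸ R) : Set (Y ⧸ R)) ≤ pCore 2 (Y ⧸ R) := by
    intro x hx
    obtain ⟨x, rfl⟩ := QuotientGroup.mk'_surjective R x
    set Qb := (Q.subgroupOf Y).map (QuotientGroup.mk' R) with hQb
    have hQb2 : IsPGroup 2 Qb :=
      ((hT.to_le hQT).of_equiv (subgroupOfEquivOfLe (hQT.trans hTY')).symm).map _
    have : Qb.Normal := Subgroup.Normal.map (normal_subgroupOf_of_le_normalizer hYQ) _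
      (QuotientGroup.mk'_surjective R)
    have hQb' : Qb ≤ pCore 2 (Y ⧸ R) := PSolvable.le_pCore hQb2
    have hxC : (x : G) ∈ centralizer (Q : Set G) := by
      refine mem_centralizer_iff.2 fun q hq => ?_
      set q' : Y := ⟨q, hTY' (hQT hq)⟩ with hq'
      have h1 := mem_centralizer_iff.1 hx _ (hQb' (mem_map_of_mem (QuotientGroup.mk' R)
        (mem_subgroupOf.2 hq : q' ∈ Q.subgroupOf Y)))
      have h2 : q' * x * q'⁻¹ * x⁻¹ ∈ R := by
        rw [← QuotientGroup.eq_one_iff, ← QuotientGroup.mk'_apply, map_mul, map_mul, map_mul, h1,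
          map_inv, map_inv, mul_inv_cancel_right, mul_inv_cancel]
      have h3 : x * q'⁻¹ * x⁻¹ ∈ Q.subgroupOf Y :=
        (normal_subgroupOf_of_le_normalizer hYQ).conj_mem _ (inv_mem (mem_subgroupOf.2 hq)) x
      have h4 : q' * x * q'⁻¹ * x⁻¹ ∈ Q.subgroupOf Y ⊓ R := by
        refine ⟨?_, h2⟩
        rw [mul_assoc q', mul_assoc q']
        exact mul_mem (mem_subgroupOf.2 hq) h3
      rw [PSolvable.inf_eq_bot_of_isPGroup_of_coprime
        ((hT.to_le hQT).of_equiv (subgroupOfEquivOfLe (hQT.trans hTY')).symm)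
        ((Nat.prime_two.coprime_iff_not_dvd).2 hRodd).symm, mem_bot, mul_inv_eq_one,
        mul_inv_eq_iff_eq_mul] at h4
      exact congrArg Subtype.val h4
    obtain ⟨r, hr, z, hz, e⟩ := mem_sup_of_normal_left.1
      (hcomp.sup_eq_top.ge (mem_top (⟨x, mem_subgroupOf.2 hxC⟩ : Cy)))
    have e' : ((r : Cy) : Y) * z = x := congrArg Subtype.val e
    rw [← e', map_mul, show QuotientGroup.mk' R (r : Y) = 1 from
      (QuotientGroup.eq_one_iff _).2 ⟨r, hR1le hr, rfl⟩, one_mul]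
    exact hQb' (mem_map_of_mem _ (mem_subgroupOf.2 (hPQ z hz)))
  refine ⟨R, hRn, fun r hr => centralizer_le (SetLike.coe_subset_coe.2 le_sup_left) (hRQ r hr),
    hRodd, hchr, fun h => hfree (Involves.of_injective Y.subtype Y.subtype_injective
      (Involves.of_quotient (QuotientGroup.mk' R) (QuotientGroup.mk'_surjective R) h)), ?_⟩
  · have e : (R.map Y.subtype).subgroupOf Y = R :=
      comap_map_eq_self_of_injective Y.subtype_injective R
    have : ((R.map Y.subtype).subgroupOf Y).Normal := by rw [e]; exact hRn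
    let eq := QuotientGroup.quotientMulEquivOfEq e
    have h : Restricted (Y ⧸ (R.map Y.subtype).subgroupOf Y) := fun H hH N _ hs hn =>
      Or.inl (hsec Y (R.map Y.subtype) (chr_congr eq hchr) H hH N hs hn)
    exact h.of_surjective eq.toMonoidHom eq.surjective

end Cfsg.Agent.Lib.GlaubermanStrong
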