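import Cfsg.Agent.Lib.GlaubermanStrong.Family

/-!
# Pairs of conjugates normalising each other in part
-/

set_option autoImplicit false

namespace Cfsg.Agent.Lib.GlaubermanStrong

open Subgroup Cfsg GlaubermanTwo
open scoped commutatorElement

universe u

variable {G : Type u} [Group G]

/-- Some element of `D` outside `C` normalises `C`. -/
def Valid (C D : Subgroup G) : Prop := ¬ D ⊓ normalizer (C : Set G) ≤ C

/-- The quantity to be maximised. -/
noncomputable def meas (C D : Subgroup G) : ℕ :=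
  Nat.card ↥(C ⊓ D) * (2 * Nat.card G + 1) +
    (Nat.card ↥(C ⊓ normalizer (D : Set G)) + Nat.card ↥(D ⊓ normalizer (C : Set G)))

/-- A valid pair of largest measure. -/
structure MaxPair (𝒜 : Set (Subgroup G)) (A A' : Subgroup G) : Prop where
  fam : Family 𝒜
  mem : A ∈ 𝒜
  mem' : A' ∈ 𝒜
  valid : Valid A A'
  max : ∀ C ∈ 𝒜, ∀ D ∈ 𝒜, Valid C D → meas C D ≤ meas A A'

namespace MaxPair

variable [Finite G] {𝒜 : Set (Subgroup G)} {A A' : Subgroup G} (h : MaxPair 𝒜 A A')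
include h

theorem elemA : IsElementaryAbelian 2 A := h.fam.elem A h.mem
theorem elemA' : IsElementaryAbelian 2 A' := h.fam.elem A' h.mem'

theorem inter_le {C D : Subgroup G} (hC : C ∈ 𝒜) (hD : D ∈ 𝒜) (hv : Valid C D) :
    Nat.card ↥(C ⊓ D) ≤ Nat.card ↥(A ⊓ A') := by
  have h1 := h.max C hC D hD hv
  have h2 : Nat.card ↥(A ⊓ normalizer (A' : Set G)) ≤ Nat.card G := card_le_card_group _
  have h3 : Nat.card ↥(A' ⊓ normalizer (A : Set G)) ≤ Nat.card G := card_le_card_group _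
  unfold meas at h1
  by_contra hlt
  have h4 : (Nat.card ↥(A ⊓ A') + 1) * (2 * Nat.card G + 1) ≤
      Nat.card ↥(C ⊓ D) * (2 * Nat.card G + 1) := Nat.mul_le_mul_right _ (by omega)
  rw [Nat.add_mul] at h4
  omega

theorem sum_le {C D : Subgroup G} (hC : C ∈ 𝒜) (hD : D ∈ 𝒜) (hv : Valid C D)
    (hi : Nat.card ↥(A ⊓ A') ≤ Nat.card ↥(C ⊓ D)) :
    Nat.card ↥(C ⊓ normalizer (D : Set G)) + Nat.card ↥(D ⊓ normalizer (C : Set G)) ≤
      Nat.card ↥(A ⊓ normalizer (A' : Set G)) + Nat.card ↥(A' ⊓ normalizer (A : Set G)) := by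
  have h1 := h.max C hC D hD hv
  have h4 := Nat.mul_le_mul_right (2 * Nat.card G + 1) hi
  unfold meas at h1
  omega

theorem inf_le_norm : A ⊓ A' ≤ A ⊓ normalizer (A' : Set G) :=
  inf_le_inf_left A Subgroup.le_normalizer

theorem inf_le_norm' : A ⊓ A' ≤ A' ⊓ normalizer (A : Set G) :=
  le_inf inf_le_right (inf_le_left.trans Subgroup.le_normalizer)

theorem delta_mem {y a : G} (hy : y ∈ A' ⊓ normalizer (A : Set G)) (ha : a ∈ A) : ⁅y, a⁆ ∈ A := by
  rw [commutatorElement_def]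
  exact A.mul_mem ((mem_normalizer_iff.1 hy.2 a).1 ha) (A.inv_mem ha)

theorem delta_B {y b : G} (hy : y ∈ A' ⊓ normalizer (A : Set G))
    (hb : b ∈ A ⊓ normalizer (A' : Set G)) : ⁅y, b⁆ ∈ A ⊓ A' := by
  refine ⟨h.delta_mem hy hb.1, ?_⟩
  rw [commutatorElement_def, mul_assoc, mul_assoc, ← mul_assoc b]
  exact A'.mul_mem hy.1 ((mem_normalizer_iff.1 hb.2 _).1 (A'.inv_mem hy.1))

theorem delta_inf {y i : G} (hy : y ∈ A' ⊓ normalizer (A : Set G)) (hi : i ∈ A ⊓ A') :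
    ⁅y, i⁆ = 1 :=
  commutatorElement_eq_one_iff_mul_comm.2 (ElemAbelian.comm h.elemA' hy.1 hi.2)

theorem delta_mul {y a b : G} (hy : y ∈ A' ⊓ normalizer (A : Set G)) (ha : a ∈ A) (hb : b ∈ A) :
    ⁅y, a * b⁆ = ⁅y, a⁆ * ⁅y, b⁆ := by
  have e : ⁅y, a * b⁆ = ⁅y, a⁆ * (a * ⁅y, b⁆ * a⁻¹) := by
    simp only [commutatorElement_def]; group
  rw [e, ElemAbelian.comm h.elemA ha (h.delta_mem hy hb), mul_inv_cancel_right]

theorem delta_inv {y a : G} (hy : y ∈ A' ⊓ normalizer (A : Set G)) (ha : a ∈ A) :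
    ⁅y, a⁻¹⁆ = ⁅y, a⁆⁻¹ := by
  rw [eq_inv_iff_mul_eq_one, ← h.delta_mul hy (A.inv_mem ha) ha, inv_mul_cancel,
    commutatorElement_one_right]

omit [Finite G] h in
theorem delta_mul_left {y y' a : G} :
    ⁅y * y', a⁆ = ⁅y, ⁅y', a⁆⁆ * ⁅y', a⁆ * ⁅y, a⁆ := by
  simp only [commutatorElement_def]; group

/-- The derivations of commuting elements commute. -/
theorem delta_comm {y y' a : G} (hy : y ∈ A' ⊓ normalizer (A : Set G))
    (hy' : y' ∈ A' ⊓ normalizer (A : Set G)) (ha : a ∈ A) :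
    ⁅y, ⁅y', a⁆⁆ = ⁅y', ⁅y, a⁆⁆ := by
  have e1 := delta_mul_left (y := y) (y' := y') (a := a)
  have e2 := delta_mul_left (y := y') (y' := y) (a := a)
  rw [ElemAbelian.comm h.elemA' hy'.1 hy.1, e1] at e2
  have c := ElemAbelian.comm h.elemA (h.delta_mem hy' ha) (h.delta_mem hy ha)
  rw [mul_assoc, mul_assoc, c] at e2
  exact mul_right_cancel e2

/-- `a ∈ A` sending `A' ∩ N(A)` into `A ∩ A'` normalises `A'`. -/
theorem mem_normalizer_of_delta {a : G} (ha : a ∈ A)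
    (hd : ∀ y ∈ A' ⊓ normalizer (A : Set G), ⁅y, a⁆ ∈ A ⊓ A') :
    a ∈ normalizer (A' : Set G) := by
  have : Fact (Nat.Prime 2) := ⟨Nat.prime_two⟩
  set B := A ⊓ normalizer (A' : Set G) with hB
  set B' := A' ⊓ normalizer (A : Set G) with hB'
  set I := A ⊓ A' with hI
  have hIB' : I ≤ B' := h.inf_le_norm'
  let X : Subgroup G :=
    { carrier := {x | x ∈ centralizer (I : Set G) ∧ ∀ y ∈ B', x * y * x⁻¹ * y⁻¹ ∈ I}
      one_mem' := ⟨one_mem _, fun y _ => by simp [one_mem]⟩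
      mul_mem' := by
        rintro x x' ⟨hx, hxy⟩ ⟨hx', hxy'⟩
        refine ⟨mul_mem hx hx', fun y hy => ?_⟩
        have e : x * x' * y * (x * x')⁻¹ * y⁻¹ =
            x * (x' * y * x'⁻¹ * y⁻¹) * x⁻¹ * (x * y * x⁻¹ * y⁻¹) := by group
        rw [e, ← mem_centralizer_iff.1 hx _ (hxy' y hy), mul_inv_cancel_right]
        exact mul_mem (hxy' y hy) (hxy y hy)
      inv_mem' := by
        rintro x ⟨hx, hxy⟩
        refine ⟨inv_mem hx, fun y hy => ?_⟩
        have h1 := inv_mem (hxy y hy)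
        have e : x⁻¹ * y * x⁻¹⁻¹ * y⁻¹ = x⁻¹ * (x * y * x⁻¹ * y⁻¹)⁻¹ * x := by group
        rw [e, mul_assoc, mem_centralizer_iff.1 hx _ h1, inv_mul_cancel_left]
        exact h1 }
  have hAX : ∀ z ∈ A, (∀ y ∈ B', ⁅y, z⁆ ∈ I) → z ∈ X := fun z hz hzy =>
    ⟨mem_centralizer_iff.2 fun i hi => ElemAbelian.comm h.elemA (mem_inf.1 hi).1 hz, fun y hy => by
      rw [show z * y * z⁻¹ * y⁻¹ = ⁅y, z⁆⁻¹ by rw [commutatorElement_def]; group]
      exact inv_mem (hzy y hy)⟩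
  have hA'X : A' ≤ X := fun z hz =>
    ⟨mem_centralizer_iff.2 fun i hi => ElemAbelian.comm h.elemA' (mem_inf.1 hi).2 hz, fun y hy => by
      rw [ElemAbelian.comm h.elemA' hz hy.1, mul_inv_cancel_right, mul_inv_cancel]
      exact one_mem _⟩
  have hXn : X ≤ normalizer (B' : Set G) := fun x hx => by
    refine LocalChar.mem_normalizer_of_conj_map_le ?_
    rintro _ ⟨y, hy, rfl⟩
    show x * y * x⁻¹ ∈ B'
    have := mul_mem (hIB' (hx.2 y hy)) hy
    rwa [inv_mul_cancel_right] at this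
  set C := (centralizer (B' : Set G)).subgroupOf X with hC
  have : C.Normal := normal_subgroupOf_of_le_normalizer
    (LocalChar.le_normalizer_centralizer_of_le hXn)
  have hsq : ∀ x : X, x ^ 2 ∈ C := by
    intro x
    refine mem_subgroupOf.2 (mem_centralizer_iff.2 fun y hy => ?_)
    have h1 : (x : G) * y * (x : G)⁻¹ * y⁻¹ ∈ I := x.2.2 y hy
    have h2 := h.elemA.2 _ (mem_inf.1 h1).1
    have e : (x : G) * x * y * ((x : G) * x)⁻¹ * y⁻¹ = 1 := by
      rw [show (x : G) * x * y * ((x : G) * x)⁻¹ * y⁻¹ =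
        x * ((x : G) * y * (x : G)⁻¹ * y⁻¹) * (x : G)⁻¹ * ((x : G) * y * (x : G)⁻¹ * y⁻¹) by group,
        ← mem_centralizer_iff.1 x.2.1 _ h1, mul_inv_cancel_right, ← pow_two]
      exact h2
    rw [mul_inv_eq_one, mul_inv_eq_iff_eq_mul] at e
    rw [SubmonoidClass.coe_pow, pow_two]
    exact e.symm
  obtain ⟨P, hP⟩ := ((ElemAbelian.isPGroup h.elemA).comap_subtype (K := X)).exists_le_sylow
  obtain ⟨P', hP'⟩ := ((ElemAbelian.isPGroup h.elemA').comap_subtype (K := X)).exists_le_sylow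
  obtain ⟨c0, hc0⟩ := MulAction.exists_smul_eq X P' P
  have hq : IsPGroup 2 (X ⧸ C) := by
    intro q
    obtain ⟨x, rfl⟩ := QuotientGroup.mk'_surjective C q
    exact ⟨1, by rw [pow_one, ← map_pow]; exact (QuotientGroup.eq_one_iff _).2 (hsq x)⟩
  obtain ⟨p, hp, hpc⟩ : QuotientGroup.mk' C c0 ∈ (P : Subgroup X).map (QuotientGroup.mk' C) := by
    rw [← Sylow.coe_mapSurjective (QuotientGroup.mk'_surjective C) P]
    have := (P.mapSurjective (QuotientGroup.mk'_surjective C)).is_maximal'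
      (Q := ⊤) (hq.to_subgroup _) le_top
    rw [← this]
    exact mem_top _
  have hc : p⁻¹ * c0 ∈ C := by
    rw [← QuotientGroup.eq]
    exact hpc
  set c : G := ((p⁻¹ * c0 : X) : G) with hcdef
  set A'' := cjg c A' with hA''
  have hcB' : c ∈ centralizer (B' : Set G) := mem_subgroupOf.1 hc
  have hA''mem : A'' ∈ 𝒜 := h.fam.conj A' h.mem' c
  have hA''P : A'' ≤ (P : Subgroup X).map X.subtype := by
    rintro _ ⟨z, hz, rfl⟩
    refine ⟨p⁻¹ * (c0 * ⟨z, hA'X hz⟩ * c0⁻¹) * p, ?_, ?_⟩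
    · refine mul_mem (mul_mem (inv_mem hp) ?_) hp
      rw [← hc0, Sylow.coe_subgroup_smul]
      exact ⟨_, hP' (mem_subgroupOf.2 hz : (⟨z, hA'X hz⟩ : X) ∈ _), rfl⟩
    · show (p : G)⁻¹ * ((c0 : G) * z * (c0 : G)⁻¹) * p = c * z * c⁻¹
      rw [hcdef, Subgroup.coe_mul, Subgroup.coe_inv]
      group
  have hPn : (P : Subgroup X).map X.subtype ≤ normalizer (A'' : Set G) := by
    intro x hx
    refine LocalChar.mem_normalizer_iff_conj_map.2 (h.fam.eq_of_le _ (h.fam.conj _ hA''mem x) _ hA''mem _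
      (P.2.map X.subtype) ?_ hA''P)
    rintro _ ⟨z, hz, rfl⟩
    exact mul_mem (mul_mem hx (hA''P hz)) (inv_mem hx)
  have hB'A'' : B' ≤ A'' := fun y hy => ⟨y, hy.1, by
    show c * y * c⁻¹ = y
    rw [← mem_centralizer_iff.1 hcB' y hy, mul_inv_cancel_right]⟩
  have hD : ∀ z ∈ A, (∀ y ∈ B', ⁅y, z⁆ ∈ I) → z ∈ normalizer (A'' : Set G) := fun z hz hzy =>
    hPn ⟨⟨z, hAX z hz hzy⟩, hP (mem_subgroupOf.2 hz), rfl⟩
  have hBsub : B ≤ A ⊓ normalizer (A'' : Set G) := fun b hb =>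
    ⟨hb.1, hD b hb.1 fun y hy => h.delta_B hy hb⟩
  have hB'sub : B' ≤ A'' ⊓ normalizer (A : Set G) := fun y hy => ⟨hB'A'' hy, hy.2⟩
  have hv : Valid A A'' := fun hle => h.valid fun y hy => hle (hB'sub hy)
  have hsum := h.sum_le h.mem hA''mem hv (card_le_of_le (le_inf inf_le_left (hIB'.trans hB'A'')))
  have h1 := card_le_of_le hB'sub
  have h2 := card_le_of_le hBsub
  rw [← hB, ← hB'] at hsum
  have heq : B = A ⊓ normalizer (A'' : Set G) := eq_of_le_of_card_ge hBsub (by omega)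
  exact (heq.ge ⟨ha, hD a ha hd⟩).2

end MaxPair

end Cfsg.Agent.Lib.GlaubermanStrong
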