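import Cfsg.Agent.Lib.GlaubermanStrong.Layer

/-!
# Strong closure
-/

set_option autoImplicit false

namespace Cfsg.Agent.Lib.GlaubermanStrong

open Subgroup Cfsg GlaubermanTwo
open scoped commutatorElement

universe u

variable {G : Type u} [Group G] [Finite G] {𝒜 : Set (Subgroup G)} {A A' : Subgroup G}

theorem MaxPair.absurd' (h : MaxPair 𝒜 A A') (hfree : ¬ Involves (Equiv.Perm (Fin 4)) G)
    (hsec : SectionHyp G) : False := by
  have : Fact (Nat.Prime 2) := ⟨Nat.prime_two⟩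
  have hfb := h.fix_bound hfree hsec
  have hlt := h.card_I_lt
  have hBB' := h.card_B_eq
  have hBF := card_le_of_le h.B_le_fixGrp
  set B := A ⊓ normalizer (A' : Set G) with hB
  set B' := A' ⊓ normalizer (A : Set G) with hB'
  set I := A ⊓ A' with hI
  have hi : 0 < Nat.card I := Nat.card_pos
  have key : Nat.card h.fixGrp * Nat.card I < Nat.card B ^ 2 := by
    by_contra hle
    push Not at hle
    have h1 : Nat.card B ^ 2 * Nat.card B ^ 2 ≤
        Nat.card B ^ 3 * Nat.card I :=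
      calc Nat.card B ^ 2 * Nat.card B ^ 2
          ≤ (Nat.card h.fixGrp * Nat.card I) * (Nat.card h.fixGrp * Nat.card I) :=
            Nat.mul_le_mul hle hle
        _ = Nat.card h.fixGrp ^ 2 * Nat.card I * Nat.card I := by ring
        _ ≤ _ := Nat.mul_le_mul_right _ hfb
    have h2 : Nat.card B ^ 3 * Nat.card B ≤ Nat.card B ^ 3 * Nat.card I := by
      refine le_trans (le_of_eq ?_) h1; ring
    exact hlt.not_ge (Nat.le_of_mul_le_mul_left h2 (pow_pos Nat.card_pos 3))
  -- every element of `A` is fixed modulo `B`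
  have hAF : h.fixGrp = A := by
    by_contra hne
    have hstab : ∀ y ∈ B', ∀ m ∈ h.fixGrp, ⁅y, m⁆ ∈ h.fixGrp := fun y hy m hm =>
      h.B_le_fixGrp (hm.2 y hy)
    obtain ⟨a, ha, hanF, hay⟩ := h.exists_fixed (lt_of_le_of_ne h.fixGrp_le hne)
      (h.inf_le_norm.trans h.B_le_fixGrp) hstab
    refine hanF ⟨ha, fun y' hy' => ?_⟩
    obtain ⟨y, hy, hyI, hyB⟩ : ∃ y ∈ B', y ∉ I ∧ ⁅y, a⁆ ∈ B := by
      by_contra hall
      push Not at hall
      let Bs := B.subgroupOf h.fixGrp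
      let φ : B' → h.fixGrp ⧸ Bs := fun y => (⟨⁅(y : G), a⁆, hay y y.2⟩ : h.fixGrp)
      have hφ : ∀ y z : B', φ y = φ z → (y : G)⁻¹ * z ∈ I := by
        intro y z e
        have e' : ⁅(y : G), a⁆⁻¹ * ⁅(z : G), a⁆ ∈ B := mem_subgroupOf.1 (QuotientGroup.eq.1 e)
        by_contra hn
        refine hall _ (mul_mem (inv_mem y.2) z.2) hn ?_
        have hz : ⁅(y : G) * ((y : G)⁻¹ * z), a⁆ = ⁅(z : G), a⁆ := by rw [mul_inv_cancel_left]
        rw [delta_mul_left] at hz
        set d := ⁅(y : G)⁻¹ * (z : G), a⁆ with hd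
        have hdF : d ∈ h.fixGrp := hay _ (mul_mem (inv_mem y.2) z.2)
        have e1 := hdF.2 _ y.2
        rw [← hz] at e'
        have hdA : d ∈ A := hdF.1
        rw [ElemAbelian.comm h.elemA (A.mul_mem (h.delta_mem y.2 hdA) hdA) (h.delta_mem y.2 ha),
          inv_mul_cancel_left] at e'
        have := mul_mem (inv_mem e1) e'
        rwa [inv_mul_cancel_left] at this
      let Is := I.subgroupOf B'
      have hle : Nat.card (B' ⧸ Is) ≤ Nat.card (h.fixGrp ⧸ Bs) :=
        Nat.card_le_card_of_injective (fun q => φ q.out) fun p q e => by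
          rw [← Quotient.out_eq p, ← Quotient.out_eq q]
          exact QuotientGroup.eq.2 (mem_subgroupOf.2 (hφ _ _ e))
      have c1 : Nat.card B' = Nat.card (B' ⧸ Is) * Nat.card I := by
        rw [Subgroup.card_eq_card_quotient_mul_card_subgroup Is,
          Nat.card_congr (subgroupOfEquivOfLe h.inf_le_norm').toEquiv]
      have c2 : Nat.card h.fixGrp = Nat.card (h.fixGrp ⧸ Bs) * Nat.card B := by
        rw [Subgroup.card_eq_card_quotient_mul_card_subgroup Bs,
          Nat.card_congr (subgroupOfEquivOfLe h.B_le_fixGrp).toEquiv]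
      rw [hBB'] at c1
      refine key.not_ge ?_
      calc Nat.card B ^ 2 = Nat.card B * (Nat.card (B' ⧸ Is) * Nat.card I) := by
            rw [← c1]; ring
        _ ≤ Nat.card B * (Nat.card (h.fixGrp ⧸ Bs) * Nat.card I) :=
            Nat.mul_le_mul_left _ (Nat.mul_le_mul_right _ hle)
        _ = _ := by rw [c2]; ring
    have h1 : ⁅y, ⁅y', a⁆⁆ ∈ I := by
      rw [h.delta_comm hy hy' ha]
      exact h.delta_B hy' hyB
    by_contra hn
    exact hyI (h.injective_delta (hay y' hy') (fun hN => hn ⟨(hay y' hy').1, hN⟩) hy h1)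
  have hb := (h.fam.bound A h.mem B' (ElemAbelian.mono h.elemA' inf_le_left) inf_le_right).1
  have hC : B' ⊓ centralizer (A : Set G) ≤ I := fun y hy =>
    ⟨h.fam.mem_of_comm A h.mem A' h.mem' y (mem_inf.1 hy).1.1 (mem_inf.1 hy).2, (mem_inf.1 hy).1.1⟩
  have hC' : I ≤ A ⊓ centralizer (B' : Set G) := fun x hx =>
    ⟨hx.1, mem_centralizer_iff.2 fun y hy => ElemAbelian.comm h.elemA' (mem_inf.1 hy).1 hx.2⟩
  have c1 : Nat.card h.fixGrp = Nat.card A := congrArg (fun H : Subgroup G => Nat.card H) hAF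
  rw [c1] at key
  refine key.not_ge ?_
  refine Nat.le_of_mul_le_mul_right ?_ hi
  calc Nat.card B ^ 2 * Nat.card I
      ≤ Nat.card B' ^ 2 * Nat.card ↥(A ⊓ centralizer (B' : Set G)) := by
        rw [hBB']; exact Nat.mul_le_mul_left _ (card_le_of_le hC')
    _ ≤ Nat.card A * Nat.card ↥(B' ⊓ centralizer (A : Set G)) ^ 2 := hb
    _ ≤ Nat.card A * Nat.card I ^ 2 :=
        Nat.mul_le_mul_left _ (Nat.pow_le_pow_left (card_le_of_le hC) 2)
    _ = _ := by ring

/-- No element of a member outside another one normalises it. -/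
theorem Family.inf_normalizer_le (hF : Family 𝒜) (hfree : ¬ Involves (Equiv.Perm (Fin 4)) G)
    (hsec : SectionHyp G) (hA : A ∈ 𝒜) (hA' : A' ∈ 𝒜) : A' ⊓ normalizer (A : Set G) ≤ A := by
  by_contra hv
  obtain ⟨⟨C, D⟩, ⟨hC, hD, hv'⟩, hmax⟩ := (Set.toFinite
    {p : Subgroup G × Subgroup G | p.1 ∈ 𝒜 ∧ p.2 ∈ 𝒜 ∧ Valid p.1 p.2}).exists_maximalFor
    (fun p => meas p.1 p.2) _ ⟨(A, A'), hA, hA', hv⟩
  refine MaxPair.absurd' ⟨hF, hC, hD, hv', fun C' hC' D' hD' h' => ?_⟩ hfree hsec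
  by_contra hlt
  exact hlt (hmax (j := (C', D')) ⟨hC', hD', h'⟩ (le_of_lt (not_le.1 hlt)))

theorem stronglyClosed (hfree : ¬ Involves (Equiv.Perm (Fin 4)) G) (hsec : SectionHyp G)
    {S : Sylow 2 G} (h : AHyp A S) : IsStronglyClosed A (S : Subgroup G) := by
  refine ⟨h.le, fun x hx g hg => ?_⟩
  have hF := family_of_weaklyClosed h fun g hg => weaklyClosed hfree hsec h hg
  refine hF.inf_normalizer_le hfree hsec (A := A) (A' := cjg g A) ?_ ⟨g, rfl⟩
    ⟨⟨x, hx, rfl⟩, h.normalS (Subgroup.le_normalizer hg)⟩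
  exact ⟨1, LocalChar.conj_map_one A⟩

end Cfsg.Agent.Lib.GlaubermanStrong
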