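import Mathlib
import Cfsg.Agent.Lib.LocalChar.Basic
import Cfsg.Agent.Lib.Transfer.Criteria

/-!
# One step towards tame intersections
-/

set_option autoImplicit false

namespace Cfsg.Agent.Lib.GlaubermanStrong

open Subgroup

variable {G : Type*} [Group G]

/-- The image of `X` under conjugation by `g`. -/
abbrev cjg (g : G) (X : Subgroup G) : Subgroup G := X.map (MulAut.conj g).toMonoidHom

/-- `S ∩ gSg⁻¹`. -/
abbrev dom (S : Subgroup G) (g : G) : Subgroup G := S ⊓ cjg g S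

variable [Finite G]

theorem exists_normalizer_conj (S : Sylow 2 G) {P : Subgroup G} (hP : P ≤ (S : Subgroup G)) :
    ∃ h : G, (S : Subgroup G) ⊓ normalizer (P : Set G) ≤ cjg h (S : Subgroup G) ∧
      cjg h⁻¹ P ≤ (S : Subgroup G) ∧
      ¬ 2 ∣ ((S : Subgroup G) ⊓ normalizer (cjg h⁻¹ P : Set G)).relIndex
        (normalizer (cjg h⁻¹ P : Set G)) ∧
      Nat.card ↥((S : Subgroup G) ⊓ normalizer (P : Set G)) ≤
        Nat.card ↥((S : Subgroup G) ⊓ normalizer (cjg h⁻¹ P : Set G)) ∧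
      ∀ R2 : Subgroup G, IsPGroup 2 R2 → R2 ≤ normalizer (P : Set G) →
        ∃ n ∈ normalizer (P : Set G), cjg n R2 ≤ cjg h (S : Subgroup G) := by
  have : Fact (Nat.Prime 2) := ⟨Nat.prime_two⟩
  set N := normalizer (P : Set G) with hN
  set R1 := (S : Subgroup G) ⊓ N with hR1
  obtain ⟨T0, hT0⟩ := ((S.2.to_le (inf_le_left : R1 ≤ S)).comap_subtype (H := R1) (K := N)).exists_le_sylow
  obtain ⟨X, hX⟩ := (T0.2.map N.subtype).exists_le_sylow
  obtain ⟨h, hh⟩ := MulAction.exists_smul_eq G S X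
  have hXS : (X : Subgroup G) = cjg h (S : Subgroup G) := by
    rw [← hh, Sylow.coe_subgroup_smul]; rfl
  rw [hXS] at hX
  set T := (T0 : Subgroup N).map N.subtype with hT
  have hR1T : R1 ≤ T := fun x hx => ⟨⟨x, hx.2⟩, hT0 (mem_subgroupOf.2 hx), rfl⟩
  have hPT : P ≤ T := (le_inf hP Subgroup.le_normalizer).trans hR1T
  set P2 := cjg h⁻¹ P with hP2
  set T2 := cjg h⁻¹ T with hT2
  have hback : cjg h⁻¹ (cjg h (S : Subgroup G)) = (S : Subgroup G) := by
    rw [cjg, cjg, LocalChar.conj_map_conj_map, inv_mul_cancel, LocalChar.conj_map_one]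
  have hT2S : T2 ≤ (S : Subgroup G) := hback ▸ map_mono hX
  have hN2 : normalizer (P2 : Set G) = cjg h⁻¹ N := LocalChar.normalizer_conj_map P h⁻¹
  have hT2le : T2 ≤ (S : Subgroup G) ⊓ normalizer (P2 : Set G) :=
    le_inf hT2S (hN2 ▸ map_mono (map_subtype_le _))
  refine ⟨h, hR1T.trans hX, (map_mono hPT).trans hT2S, ?_, ?_, fun R2 hR2 hR2N => ?_⟩
  · intro hd
    refine T0.not_dvd_index (hd.trans ?_)
    have h1 := relIndex_mul_relIndex T2 ((S : Subgroup G) ⊓ normalizer (P2 : Set G))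
      (normalizer (P2 : Set G)) hT2le inf_le_right
    have h2 : T2.relIndex (normalizer (P2 : Set G)) = (T0 : Subgroup N).index := by
      rw [hN2, hT2, relIndex_map_map_of_injective _ _ (MulAut.conj h⁻¹).injective]
      show (((T0 : Subgroup N).map N.subtype).subgroupOf N).index = _
      rw [subgroupOf, comap_map_eq_self_of_injective N.subtype_injective]
    exact ⟨_, (Nat.mul_comm _ _).trans (h1.trans h2) |>.symm⟩
  · refine (card_le_of_le hR1T).trans ((LocalChar.card_conj_map T h⁻¹).ge.trans (card_le_of_le hT2le))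
  · obtain ⟨T1, hT1⟩ := (hR2.comap_subtype (H := R2) (K := N)).exists_le_sylow
    obtain ⟨n, hn⟩ := MulAction.exists_smul_eq N T1 T0
    refine ⟨n, n.2, le_trans ?_ hX⟩
    rintro _ ⟨x, hx, rfl⟩
    have hx1 : (⟨x, hR2N hx⟩ : N) ∈ (T1 : Subgroup N) := hT1 (mem_subgroupOf.2 hx)
    refine ⟨n * ⟨x, hR2N hx⟩ * n⁻¹, ?_, rfl⟩
    rw [← hn, Sylow.coe_subgroup_smul]
    exact ⟨_, hx1, rfl⟩

/-- The step: if `S ∩ gSg⁻¹ < S`, conjugation by `g` factors through larger intersections and the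
normaliser of the intersection. -/
theorem exists_step (S : Sylow 2 G) {g : G} (h : dom (S : Subgroup G) g ≠ S) :
    ∃ (k n : G) (R2 : Subgroup G),
      n ∈ normalizer (dom (S : Subgroup G) g : Set G) ∧
      dom (S : Subgroup G) g < (S : Subgroup G) ⊓ normalizer (dom (S : Subgroup G) g : Set G) ∧
      (S : Subgroup G) ⊓ normalizer (dom (S : Subgroup G) g : Set G) ≤ dom (S : Subgroup G) k ∧
      dom (S : Subgroup G) g < R2 ∧ R2 ≤ cjg g (S : Subgroup G) ∧
      cjg (k⁻¹ * n) R2 ≤ dom (S : Subgroup G) (k⁻¹ * n * g) := by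
  have : Fact (Nat.Prime 2) := ⟨Nat.prime_two⟩
  set R := dom (S : Subgroup G) g with hR
  have hlt : R < (S : Subgroup G) := lt_of_le_of_ne inf_le_left h
  have hgS : IsPGroup 2 (cjg g (S : Subgroup G)) := S.2.map _
  have hlt2 : R < cjg g (S : Subgroup G) := by
    refine lt_of_le_of_ne inf_le_right fun e => h (eq_of_le_of_card_ge inf_le_left ?_)
    rw [e, LocalChar.card_conj_map]
  obtain ⟨k, hk, -, -, -, hconj⟩ := exists_normalizer_conj S (inf_le_left : R ≤ S)
  set R2 := cjg g (S : Subgroup G) ⊓ normalizer (R : Set G) with hR2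
  obtain ⟨n, hn, hnR2⟩ := hconj R2 (hgS.to_le inf_le_left) inf_le_right
  refine ⟨k, n, R2, hn, Transfer.lt_inf_normalizer S.2 hlt, le_inf inf_le_left hk,
    Transfer.lt_inf_normalizer hgS hlt2, inf_le_left, le_inf ?_ ?_⟩
  · rw [cjg, ← LocalChar.conj_map_conj_map]
    refine (map_mono hnR2).trans ?_
    rw [cjg, LocalChar.conj_map_conj_map, inv_mul_cancel, LocalChar.conj_map_one]
  · conv_rhs => rw [cjg, ← LocalChar.conj_map_conj_map]
    exact map_mono inf_le_left

end Cfsg.Agent.Lib.GlaubermanStrong
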