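import Cfsg.Agent.Lib.GlaubermanStrong.Bound
import Cfsg.Agent.Lib.GlaubermanStrong.Tame
import Cfsg.Agent.Lib.GlaubermanTwo.Main

/-!
# Weak closure of `A`
-/

set_option autoImplicit false

namespace Cfsg.Agent.Lib.GlaubermanStrong

open Subgroup Cfsg GlaubermanTwo
open scoped commutatorElement

universe u

variable {G : Type u} [Group G] [Finite G] {A : Subgroup G} {S : Sylow 2 G}

theorem cjg_eq_of_mem {g : G} {X : Subgroup G} (h : g ∈ normalizer (X : Set G)) : cjg g X = X :=
  LocalChar.conj_map_eq_of_mem h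

theorem AHyp.le_thompson (h : AHyp A S) {T : Subgroup G} (hAT : A ≤ T) (hTS : T ≤ S) :
    A ≤ thompsonSubgroupOf 2 T := by
  obtain ⟨E, hE⟩ := Thompson.exists_mem_maxIn 2 T
  exact (strict_le_maxIn le_rfl (Thompson.thompsonSubgroupOf_le 2 T) h.elem hAT
    (h.strict.mono hTS) hE).trans (Thompson.le_thompsonSubgroupOf hE)

/-- The factorisation step. -/
theorem normalizer_le_step (hfree : ¬ Involves (Equiv.Perm (Fin 4)) G) (hsec : SectionHyp G)
    (h : AHyp A S) {P : Subgroup G} (hAP : A ≤ P) (hPS : P ≤ (S : Subgroup G))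
    (hsyl : ¬ 2 ∣ ((S : Subgroup G) ⊓ normalizer (P : Set G)).relIndex (normalizer (P : Set G)))
    (hJ : normalizer (thompsonSubgroupOf 2 ((S : Subgroup G) ⊓ normalizer (P : Set G)) : Set G) ≤
      normalizer (A : Set G)) :
    normalizer (P : Set G) ≤ normalizer (A : Set G) := by
  have : Fact (Nat.Prime 2) := ⟨Nat.prime_two⟩
  set T := (S : Subgroup G) ⊓ normalizer (P : Set G) with hT
  have hPT : P ≤ T := le_inf hPS Subgroup.le_normalizer
  have hTp : IsPGroup 2 T := S.2.to_le inf_le_left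
  have hCA : centralizer (P : Set G) ≤ normalizer (A : Set G) :=
    (centralizer_le (SetLike.coe_subset_coe.2 hAP)).trans (centralizer_le_normalizer _)
  obtain ⟨Y, hYN, hTY, hcov, R0, hR0n, hR0c, hR0o, hchr, hfree', hres⟩ :=
    exists_model hfree hsec hPT inf_le_right le_rfl hTp hsyl
  intro y hy
  obtain ⟨m, hm, hym⟩ := hcov y hy
  suffices hmA : m ∈ normalizer (A : Set G) by
    have := mul_mem hmA (inv_mem (hCA hym))
    rwa [show m * (y⁻¹ * m)⁻¹ = y by group] at this
  set f := QuotientGroup.mk' R0 with hf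
  have hfs : Function.Surjective f := QuotientGroup.mk'_surjective R0
  have hker : ¬ 2 ∣ Nat.card f.ker := by rwa [hf, QuotientGroup.ker_mk']
  obtain ⟨TY, hTYs⟩ := exists_sylowIn hTY hTp
    (fun hd => hsyl (hd.trans (Dvd.intro _ (relIndex_mul_relIndex T Y _ hTY hYN))))
  set TH := TY.mapSurjective hfs with hTH
  have hTYp : IsPGroup 2 (T.subgroupOf Y) := hTYs ▸ TY.2
  have hdis : ∀ X : Subgroup Y, IsPGroup 2 X → X ⊓ f.ker = ⊥ := fun X hX =>
    PSolvable.inf_eq_bot_of_isPGroup_of_coprime hX ((Nat.prime_two.coprime_iff_not_dvd).2 hker).symm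
  set g : T →* Y ⧸ R0 := f.comp (inclusion hTY) with hg
  have hTg : (⊤ : Subgroup T).map (inclusion hTY) = T.subgroupOf Y := by
    ext z
    exact ⟨by rintro ⟨x, -, rfl⟩; exact x.2, fun hz => ⟨⟨z, hz⟩, mem_top _, Subtype.ext rfl⟩⟩
  have hgi : Function.Injective g := by
    rw [← MonoidHom.ker_eq_bot_iff, _root_.eq_bot_iff]
    intro x hx
    have h1 : inclusion hTY x ∈ T.subgroupOf Y ⊓ f.ker := ⟨mem_subgroupOf.2 x.2, hx⟩
    rw [hdis _ hTYp, mem_bot] at h1
    exact mem_bot.2 (inclusion_injective hTY (h1.trans (map_one _).symm))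
  have hTHeq : (TH : Subgroup (Y ⧸ R0)) = (⊤ : Subgroup T).map g := by
    rw [hg, ← Subgroup.map_map, hTg, hTH, Sylow.coe_mapSurjective, hTYs]
  obtain ⟨cb, hcb, nb, hnb, e⟩ := GlaubermanTwo.wFact _ rfl hchr hfree' hres TH (f ⟨m, hm⟩) (mem_top _)
  obtain ⟨c, rfl⟩ := hfs cb
  have htop : (⊤ : Subgroup T).map T.subtype = T := by
    rw [← MonoidHom.range_eq_map, range_subtype]
  have hcA : (c : G) ∈ normalizer (A : Set G) := by
    refine LocalChar.mem_normalizer_of_conj_map_le ?_
    rintro _ ⟨a, ha, rfl⟩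
    obtain ⟨a', ha', rfl⟩ := (show A ≤ (GlaubermanTwo.wOf (⊤ : Subgroup T)).map T.subtype by
      rw [← wOf_map T.subtype_injective, htop]
      exact h.le_wOf (hAP.trans hPT) inf_le_left) ha
    set x : Y := inclusion hTY a' with hx
    have hxW : f x ∈ GlaubermanTwo.wOf (TH : Subgroup (Y ⧸ R0)) := by
      rw [hTHeq, wOf_map hgi]; exact ⟨a', ha', rfl⟩
    have hxP : x ∈ P.subgroupOf Y := hAP ha
    have h1 : c * x * c⁻¹ * x⁻¹ ∈ P.subgroupOf Y ⊓ f.ker := by
      refine ⟨mul_mem ((normal_subgroupOf_of_le_normalizer hYN).conj_mem x hxP c) (Subgroup.inv_mem _ hxP), ?_⟩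
      refine MonoidHom.mem_ker.2 ?_
      rw [map_mul, map_mul, map_mul, map_inv, map_inv,
        ← mem_centralizer_iff.1 hcb _ hxW, mul_inv_cancel_right, mul_inv_cancel]
    rw [hdis _ ((hTp.to_le hPT).of_equiv (subgroupOfEquivOfLe (hPT.trans hTY)).symm), mem_bot,
      mul_inv_eq_one] at h1
    show (c : G) * (a' : G) * (c : G)⁻¹ ∈ A
    rw [show (c : G) * (a' : G) * (c : G)⁻¹ = (a' : G) from congrArg Subtype.val h1]
    exact ha
  obtain ⟨n, hn, rfl⟩ : nb ∈ (normalizer
      (((thompsonSubgroupOf 2 (⊤ : Subgroup T)).map (inclusion hTY) : Subgroup Y) : Set Y)).map f := by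
    refine ThompsonNPC.normalizer_map_le f hfs hker
      (hTYp.to_le (hTg ▸ map_mono le_top)) ?_
    rw [Subgroup.map_map, ← hg, ← Thompson.thompsonSubgroupOf_map hgi, ← hTHeq]
    exact hnb
  have hnA : (n : G) ∈ normalizer (A : Set G) := by
    refine hJ ?_
    have h1 := le_normalizer_map Y.subtype (mem_map_of_mem Y.subtype hn)
    rw [Subgroup.map_map, show Y.subtype.comp (inclusion hTY) = T.subtype from rfl,
      ← Thompson.thompsonSubgroupOf_map T.subtype_injective, htop] at h1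
    exact h1
  have hr : (c * n)⁻¹ * ⟨m, hm⟩ ∈ R0 := by
    rw [← QuotientGroup.eq_one_iff, ← QuotientGroup.mk'_apply, map_mul, map_inv, ← hf, e, map_mul,
      inv_mul_cancel]
  have := mul_mem (mul_mem hcA hnA) (hCA (hR0c _ hr))
  rwa [show (c : G) * n * (((c * n)⁻¹ * ⟨m, hm⟩ : Y) : G) = m by
    rw [Subgroup.coe_mul, Subgroup.coe_inv, Subgroup.coe_mul, mul_inv_cancel_left]] at this

theorem normalizer_le_of_large (hfree : ¬ Involves (Equiv.Perm (Fin 4)) G) (hsec : SectionHyp G)
    (h : AHyp A S) {k : ℕ}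
    (IH : ∀ g : G, A ≤ dom (S : Subgroup G) g → k < Nat.card ↥(dom (S : Subgroup G) g) →
      g ∈ normalizer (A : Set G)) :
    ∀ (d : ℕ) (P : Subgroup G), A ≤ P → P ≤ (S : Subgroup G) →
      k < Nat.card ↥((S : Subgroup G) ⊓ normalizer (P : Set G)) →
      Nat.card G ≤ Nat.card ↥((S : Subgroup G) ⊓ normalizer (P : Set G)) + d →
      normalizer (P : Set G) ≤ normalizer (A : Set G) := by
  have : Fact (Nat.Prime 2) := ⟨Nat.prime_two⟩
  intro d
  induction d using Nat.strong_induction_on with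
  | _ d ih =>
  intro P hAP hPS hk hd
  obtain ⟨x, hx, hPS', hsyl, hcard, -⟩ := exists_normalizer_conj S hPS
  have hAN : A ≤ (S : Subgroup G) ⊓ normalizer (P : Set G) :=
    le_inf h.le (hAP.trans Subgroup.le_normalizer)
  have hxA : x ∈ normalizer (A : Set G) :=
    IH x (le_inf h.le (hAN.trans hx)) (hk.trans_le (card_le_of_le (le_inf inf_le_left hx)))
  set P2 := cjg x⁻¹ P with hP2
  have hAP2 : A ≤ P2 := (cjg_eq_of_mem (inv_mem hxA)).ge.trans (map_mono hAP)
  have key : normalizer (P2 : Set G) ≤ normalizer (A : Set G) := by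
    refine normalizer_le_step hfree hsec h hAP2 hPS' hsyl ?_
    set T := (S : Subgroup G) ⊓ normalizer (P2 : Set G) with hT
    have hAT : A ≤ T := le_inf h.le (hAP2.trans Subgroup.le_normalizer)
    by_cases hTS : T = (S : Subgroup G)
    · rw [hTS]; exact h.normJ
    · have hlt := Transfer.lt_inf_normalizer S.2 (lt_of_le_of_ne inf_le_left hTS)
      set U := (S : Subgroup G) ⊓ normalizer (thompsonSubgroupOf 2 T : Set G) with hU
      have hlt' : Nat.card T < Nat.card U :=
        lt_of_lt_of_le (lt_of_le_of_ne (card_le_of_le hlt.le)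
          fun e => hlt.ne (eq_of_le_of_card_ge hlt.le e.ge))
          (card_le_of_le (inf_le_inf_left _ (Thompson.normalizer_le 2 T)))
      have hUG : Nat.card U ≤ Nat.card G := card_le_card_group U
      exact ih (Nat.card G - Nat.card U) (by omega) (thompsonSubgroupOf 2 T)
        (h.le_thompson hAT inf_le_left) ((Thompson.thompsonSubgroupOf_le 2 T).trans inf_le_left)
        ((hk.trans_le hcard).trans hlt') (Nat.add_sub_cancel' hUG).ge
  intro y hy
  have h1 : x⁻¹ * y * x ∈ normalizer (P2 : Set G) := by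
    rw [hP2, cjg, LocalChar.normalizer_conj_map, LocalChar.mem_conj_map]
    simpa [mul_assoc] using hy
  have := mul_mem (mul_mem hxA (key h1)) (inv_mem hxA)
  rwa [show x * (x⁻¹ * y * x) * x⁻¹ = y by group] at this

theorem mem_normalizer_of_le_dom (hfree : ¬ Involves (Equiv.Perm (Fin 4)) G) (hsec : SectionHyp G)
    (h : AHyp A S) :
    ∀ (d : ℕ) (g : G), A ≤ dom (S : Subgroup G) g →
      Nat.card G ≤ Nat.card ↥(dom (S : Subgroup G) g) + d → g ∈ normalizer (A : Set G) := by
  intro d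
  induction d using Nat.strong_induction_on with
  | _ d ih =>
  intro g hA hd
  set R := dom (S : Subgroup G) g with hR
  by_cases hRS : R = (S : Subgroup G)
  · refine h.normalS (inv_mem_iff.1 (LocalChar.mem_normalizer_of_conj_map_le ?_))
    rintro _ ⟨x, hx, rfl⟩
    have hx' : x ∈ cjg g (S : Subgroup G) := (hRS.ge hx).2
    rw [LocalChar.mem_conj_map] at hx'
    simpa using hx'
  obtain ⟨k, n, R2, hn, hlt, hk, hR2, hR2g, hle⟩ := exists_step S hRS
  have IH : ∀ g', A ≤ dom (S : Subgroup G) g' →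
      Nat.card R < Nat.card ↥(dom (S : Subgroup G) g') → g' ∈ normalizer (A : Set G) := by
    intro g' hA' hc
    have hUG : Nat.card ↥(dom (S : Subgroup G) g') ≤ Nat.card G := card_le_card_group _
    exact ih (Nat.card G - Nat.card ↥(dom (S : Subgroup G) g')) (by omega) g' hA' (by omega)
  have hcard : ∀ {U : Subgroup G}, R < U → Nat.card R < Nat.card U := fun {U} hRU =>
    lt_of_le_of_ne (card_le_of_le hRU.le) fun e => hRU.ne (eq_of_le_of_card_ge hRU.le e.ge)
  have hkA : k ∈ normalizer (A : Set G) :=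
    IH k ((hA.trans hlt.le).trans hk) ((hcard hlt).trans_le (card_le_of_le hk))
  have hnA : n ∈ normalizer (A : Set G) :=
    normalizer_le_of_large hfree hsec h IH (Nat.card G) R hA inf_le_left (hcard hlt)
      (Nat.le_add_left _ _) hn
  have hA' : A ≤ cjg (k⁻¹ * n) R2 :=
    (cjg_eq_of_mem (mul_mem (inv_mem hkA) hnA)).ge.trans (map_mono (hA.trans hR2.le))
  have := IH (k⁻¹ * n * g) (hA'.trans hle) ((hcard hR2).trans_le
    ((LocalChar.card_conj_map R2 _).ge.trans (card_le_of_le hle)))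
  have h2 := mul_mem (mul_mem (inv_mem hnA) hkA) this
  rwa [show n⁻¹ * k * (k⁻¹ * n * g) = g by group] at h2

/-- **Weak closure**: the only conjugate of `A` in `S` is `A`. -/
theorem weaklyClosed (hfree : ¬ Involves (Equiv.Perm (Fin 4)) G) (hsec : SectionHyp G)
    (h : AHyp A S) {g : G} (hg : cjg g A ≤ (S : Subgroup G)) : g ∈ normalizer (A : Set G) := by
  refine inv_mem_iff.1 (mem_normalizer_of_le_dom hfree hsec h (Nat.card G) g⁻¹
    (le_inf h.le fun a ha => ?_) (Nat.le_add_left _ _))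
  rw [LocalChar.mem_conj_map, inv_inv]
  simpa using hg (mem_map_of_mem _ ha)

end Cfsg.Agent.Lib.GlaubermanStrong
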